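import Cfsg.Agent.Lib.NormCyclic64.UniqueCentral
import Cfsg.Agent.Lib.PGroups.UniqueInvolution
import Cfsg.Agent.Lib.PGroups.Recognition
import Cfsg.Agent.Lib.SmallGroups.Sylow
import Cfsg.Agent.S0215
import Cfsg.Agent.S0508

/-!
The case of an involution centralising a non-identity element of odd order.
-/

set_option autoImplicit false
set_option linter.style.haveILetI false
set_option linter.unusedSectionVars false

namespace Cfsg.Agent.Lib.NormCyclic64

open Subgroup
open Cfsg.Agent.Lib.Involutions.Basic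

universe u

variable {L : Type u} [Group L] [Finite L]

/-- The conclusion in odd characteristic. -/
def OddPSL (L : Type u) [Group L] : Prop :=
  ∃ (F : Type) (_ : Field F) (_ : Fintype F), Odd (Fintype.card F) ∧
    Nonempty (L ≃* Matrix.ProjectiveSpecialLinearGroup (Fin 2) F)

/-- `c` centralises the odd part of the centraliser of `t`. -/
def CenD (t c : L) : Prop := ∀ y ∈ oddD t, c * y * c⁻¹ = y

omit [Finite L] in
theorem CenD.mul {t a b : L} (ha : CenD t a) (hb : CenD t b) : CenD t (a * b) := fun y hy => by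
  rw [show a * b * y * (a * b)⁻¹ = a * (b * y * b⁻¹) * a⁻¹ by group, hb y hy, ha y hy]

omit [Finite L] in
theorem CenD.inv {t a : L} (ha : CenD t a) : CenD t a⁻¹ := fun y hy => by
  have := ha y hy
  calc a⁻¹ * y * a⁻¹⁻¹ = a⁻¹ * (a * y * a⁻¹) * a := by rw [this]; group
    _ = y := by group

omit [Finite L] in
theorem CenD.of_mem_zpowers {t a b : L} (ha : CenD t a) (hb : b ∈ zpowers a) : CenD t b := by
  intro y hy
  have hc : Commute a y := mul_inv_eq_iff_eq_mul.1 (ha y hy)
  obtain ⟨j, rfl⟩ := mem_zpowers_iff.1 hb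
  rw [(hc.zpow_left j).eq, mul_inv_cancel_right]

omit [Finite L] in
theorem eq_one_or_invol_mem {c a : L} {k : ℕ} (hc : orderOf c = 2 ^ k) (h : c * c = a) :
    c = 1 ∨ (a = 1 ∧ orderOf c = 2) ∨ a ≠ 1 := by
  by_cases ha : a = 1
  · by_cases hc1 : c = 1
    · exact Or.inl hc1
    · exact Or.inr (Or.inl ⟨ha, invol_iff.2 ⟨h.trans ha, hc1⟩⟩)
  · exact Or.inr (Or.inr ha)

/-- Elements of a `2`-subgroup with non-trivial square power to an involution in the square. -/
theorem exists_invol_sq {c : L} {k : ℕ} (hc : orderOf c = 2 ^ k) (h : c * c ≠ 1) :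
    ∃ w, orderOf w = 2 ∧ w ∈ zpowers (c * c) ∧ w ∈ zpowers c := by
  have h2 : orderOf (c * c) ∣ 2 ^ k :=
    hc ▸ orderOf_dvd_of_pow_eq_one (by rw [← pow_two, ← pow_mul, mul_comm, pow_mul,
      pow_orderOf_eq_one, one_pow])
  obtain ⟨j, -, hj⟩ := (Nat.dvd_prime_pow Nat.prime_two).1 h2
  rcases j with _ | j
  · exact absurd (orderOf_eq_one_iff.1 hj) h
  have he : Even (orderOf (c * c)) := by rw [hj]; simp [Nat.even_pow]
  refine ⟨_, orderOf_pow_half he, npow_mem_zpowers _ _, ?_⟩
  exact zpowers_le.2 (mul_mem (mem_zpowers c) (mem_zpowers c)) (npow_mem_zpowers _ _)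

theorem exists_orderOf_two_pow {T : Sylow 2 L} {c : L} (hc : c ∈ (T : Subgroup L)) :
    ∃ k, orderOf c = 2 ^ k := by
  obtain ⟨k, hk⟩ := IsPGroup.iff_orderOf.1 T.2 ⟨c, hc⟩
  exact ⟨k, by rwa [Subgroup.orderOf_mk] at hk⟩

theorem exists_central_invol_sylow (T : Sylow 2 L) {t : L} (htT : t ∈ (T : Subgroup L))
    (ht : t ≠ 1) : ∃ z ∈ (T : Subgroup L), orderOf z = 2 ∧ ∀ a ∈ (T : Subgroup L), Commute a z := by
  haveI : Fact (Nat.Prime 2) := ⟨Nat.prime_two⟩
  haveI : Nontrivial (T : Subgroup L) := ⟨⟨⟨t, htT⟩, 1, fun e => ht (congrArg Subtype.val e)⟩⟩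
  haveI := T.2.center_nontrivial
  obtain ⟨k, hk⟩ := IsPGroup.iff_card.1 (T.2.to_subgroup (center (T : Subgroup L)))
  have hk0 : k ≠ 0 := by
    rintro rfl
    have := Finite.one_lt_card (α := center (T : Subgroup L))
    rw [hk] at this; simp at this
  obtain ⟨z, hz⟩ := exists_prime_orderOf_dvd_card' (G := center (T : Subgroup L)) 2
    (hk ▸ dvd_pow_self 2 hk0)
  rw [← Subgroup.orderOf_coe, ← Subgroup.orderOf_coe] at hz
  exact ⟨_, (z : (T : Subgroup L)).2, hz, fun a ha =>
    congrArg Subtype.val (mem_center_iff.1 z.2 ⟨a, ha⟩)⟩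

theorem cent_sylow_eq (T : Sylow 2 L) {w : L} (hw : IsPGroup 2 (centralizer ({w} : Set L)))
    (hT : ∀ a ∈ (T : Subgroup L), Commute a w) {c : L} (hc : Commute c w) :
    c ∈ (T : Subgroup L) := by
  rw [← T.3 hw fun a ha => mem_cent.2 (hT a ha)]
  exact mem_cent.2 hc

variable [IsSimpleGroup L]

theorem zstar_false (hna : ¬ IsMulCommutative L) (T : Sylow 2 L) {t : L} (ht : orderOf t = 2)
    (htT : t ∈ (T : Subgroup L)) (h : ∀ g, g * t * g⁻¹ ∈ (T : Subgroup L) → g * t * g⁻¹ = t) :
    False := by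
  obtain ⟨N, hN, hodd, hcom⟩ := Cfsg.Agent.S0215.result T t ht htT h
  rcases hN.eq_bot_or_eq_top with hb | hb
  · obtain ⟨g, hg⟩ := not_forall_commute hna (invol_ne_one ht)
    have := hcom g
    rw [hb, mem_bot, mul_inv_eq_one, mul_inv_eq_iff_eq_mul] at this
    exact hg this.symm
  · rw [hb, Subgroup.card_top] at hodd
    exact Nat.not_even_iff_odd.2 hodd (even_iff_two_dvd.2 (ht ▸ orderOf_dvd_natCard t))

variable (hG : Cyc L) (hna : ¬ IsMulCommutative L) {t y0 : L} (ht : orderOf t = 2)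
  (hy0 : y0 ∈ oddD t) (hy01 : y0 ≠ 1)

include hG hna ht hy0 hy01

/-- Every other involution of the centraliser inverts the odd part. -/
theorem other_inverts {v y : L} (hv : orderOf v = 2) (hvt : Commute v t) (hne : v ≠ t)
    (hy : y ∈ oddD t) : v * y * v⁻¹ = y⁻¹ :=
  hG.inverts_of_cent_ne ht hv hvt
    (fun h => hne (hG.unique_central hna ht hv hy0 hy01 fun c hc => (h c).2 hc)) hy

theorem ne_inv_self : y0⁻¹ ≠ y0 := by
  intro e
  have h2 : orderOf y0 ∣ 2 := orderOf_dvd_of_pow_eq_one (by rw [pow_two]; exact inv_eq_iff_mul_eq_one.1 e)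
  have ho := ((hG.mem_oddD ht).1 hy0).2
  rcases (Nat.dvd_prime Nat.prime_two).1 h2 with h | h
  · exact hy01 (orderOf_eq_one_iff.1 h)
  · rw [h] at ho; exact absurd ho (by decide)

theorem not_cenD_invol {v : L} (hv : orderOf v = 2) (hvt : Commute v t) (hne : v ≠ t) :
    ¬ CenD t v := fun h =>
  ne_inv_self hG hna ht hy0 hy01
    ((other_inverts hG hna ht hy0 hy01 hv hvt hne hy0).symm.trans (h y0 hy0))

theorem oddD_comm {v : L} (hv : orderOf v = 2) (hvt : Commute v t) (hne : v ≠ t) {a b : L}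
    (ha : a ∈ oddD t) (hb : b ∈ oddD t) : Commute a b := by
  have h1 := other_inverts hG hna ht hy0 hy01 hv hvt hne (mul_mem ha hb)
  rw [show v * (a * b) * v⁻¹ = (v * a * v⁻¹) * (v * b * v⁻¹) by group,
    other_inverts hG hna ht hy0 hy01 hv hvt hne ha,
    other_inverts hG hna ht hy0 hy01 hv hvt hne hb, mul_inv_rev] at h1
  exact (Commute.inv_inv_iff).1 h1

/-- The product of an element centralising the odd part and another involution is an
involution. -/
theorem sq_mul_eq_one {T : Sylow 2 L} {c v : L} (hc : c ∈ (T : Subgroup L))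
    (hvT : v ∈ (T : Subgroup L)) (hct : Commute c t) (hcD : CenD t c) (hv : orderOf v = 2)
    (hvt : Commute v t) (hne : v ≠ t) : c * v * (c * v) = 1 := by
  by_contra h
  obtain ⟨k, hk⟩ := exists_orderOf_two_pow (mul_mem hc hvT)
  obtain ⟨w, hw, hw2, hw1⟩ := exists_invol_sq hk h
  have hinv : ∀ y ∈ oddD t, c * v * y * (c * v)⁻¹ = y⁻¹ := by
    intro y hy
    rw [show c * v * y * (c * v)⁻¹ = c * (v * y * v⁻¹) * c⁻¹ by group,
      other_inverts hG hna ht hy0 hy01 hv hvt hne hy]
    exact hcD _ (inv_mem hy)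
  have hsq : CenD t (c * v * (c * v)) := by
    intro y hy
    calc c * v * (c * v) * y * (c * v * (c * v))⁻¹
        = c * v * (c * v * y * (c * v)⁻¹) * (c * v)⁻¹ := by group
      _ = y := by rw [hinv y hy, hinv _ (inv_mem hy), inv_inv]
  have hwt : w = t := by
    by_contra hne'
    exact not_cenD_invol hG hna ht hy0 hy01 hw
      (commute_of_mem_zpowers hw1 (hct.mul_left hvt).symm).symm hne' (hsq.of_mem_zpowers hw2)
  rw [hwt] at hw1
  have h1 : CenD t (c * v) := fun y hy =>
    mul_inv_eq_iff_eq_mul.2 (hG.commute_oddD ht hw1 hk hy)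
  exact ne_inv_self hG hna ht hy0 hy01 ((hinv y0 hy0).symm.trans (h1 y0 hy0))

/-- An element of the centraliser of order at least four not centralising the odd part has an
involution different from `t`. -/
theorem invol_ne {T : Sylow 2 L} {s w : L} (hs : s ∈ (T : Subgroup L)) (hsD : ¬ CenD t s)
    (hw : w ∈ zpowers s) : w ≠ t := by
  rintro rfl
  obtain ⟨k, hk⟩ := exists_orderOf_two_pow hs
  exact hsD fun y hy => mul_inv_eq_iff_eq_mul.2 (hG.commute_oddD ht hw hk hy)

/-- With such an element the elements centralising the odd part have order at most two. -/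
theorem sq_eq_one_of_cenD {T : Sylow 2 L} {s c : L} (hs : s ∈ (T : Subgroup L))
    (hst : Commute s t) (hs2 : s * s ≠ 1) (hsD : ¬ CenD t s) (hc : c ∈ (T : Subgroup L))
    (hct : Commute c t) (hcD : CenD t c) : c * c = 1 := by
  by_contra hcc
  obtain ⟨k, hk⟩ := exists_orderOf_two_pow hs
  obtain ⟨w, hw, hw2, hw1⟩ := exists_invol_sq hk hs2
  have hwne := invol_ne hG hna ht hy0 hy01 hs hsD hw1
  have hwt : Commute w t := (commute_of_mem_zpowers hw1 hst.symm).symm
  obtain ⟨j, hj⟩ := exists_orderOf_two_pow hc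
  obtain ⟨u, hu, -, hu1⟩ := exists_invol_sq hj hcc
  have hut : u = t := by
    by_contra hne'
    exact not_cenD_invol hG hna ht hy0 hy01 hu (commute_of_mem_zpowers hu1 hct.symm).symm hne'
      (hcD.of_mem_zpowers hu1)
  rw [hut] at hu1
  have hwT : w ∈ (T : Subgroup L) := zpowers_le.2 hs hw1
  have hinv : w * c * w⁻¹ = c⁻¹ := by
    have := sq_mul_eq_one hG hna ht hy0 hy01 hc hwT hct hcD hw hwt hwne
    rw [invol_inv hw]
    exact eq_inv_of_mul_eq_one_right (by rw [← this]; group)
  -- a square root `r` of `w`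
  obtain ⟨r, hr, hrr⟩ : ∃ r ∈ zpowers s, r * r = w := by
    obtain ⟨i, rfl⟩ := mem_zpowers_iff.1 hw2
    exact ⟨s ^ i, zpow_mem (mem_zpowers s) i, (Commute.refl s).mul_zpow i |>.symm⟩
  have hrt : Commute r t := (commute_of_mem_zpowers hr hst.symm).symm
  obtain ⟨i, hi⟩ := mem_zpowers_iff.1 ((hG.conj_mem_iff ht hu1).2 hrt)
  have h2 : c ^ (i * i) = c⁻¹ := by
    rw [← hinv, ← hrr, zpow_mul, hi, conj_zpow, hi]; group
  have h3 : (orderOf c : ℤ) ∣ i * i + 1 := by
    rw [orderOf_dvd_iff_zpow_eq_one, zpow_add, h2, zpow_one, inv_mul_cancel]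
  have hj2 : 2 ≤ j := by
    by_contra hlt
    refine hcc ?_
    rw [← pow_two, ← orderOf_dvd_iff_pow_eq_one, hj]
    exact (pow_dvd_pow 2 (by omega : j ≤ 1)).trans (by norm_num)
  have h4 : (4 : ℤ) ∣ i * i + 1 := by
    refine Dvd.dvd.trans ?_ h3
    rw [hj]
    exact_mod_cast (pow_dvd_pow 2 hj2 : 2 ^ 2 ∣ 2 ^ j)
  rcases Int.even_or_odd i with ⟨b, rfl⟩ | ⟨b, rfl⟩
  · rw [show (b + b) * (b + b) = 4 * (b * b) by ring] at h4; omega
  · rw [show (2 * b + 1) * (2 * b + 1) + 1 = 4 * (b * b + b) + 2 by ring] at h4; omega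

/-- The configuration with an element of order at least four outside. -/
theorem beta_invol {T : Sylow 2 L} (htT : t ∈ (T : Subgroup L)) {s : L}
    (hs : s ∈ (T : Subgroup L)) (hst : Commute s t) (hs2 : s * s ≠ 1) (hsD : ¬ CenD t s)
    {w : L} (hw : orderOf w = 2) (hw1 : w ∈ zpowers s) :
    (∀ c ∈ (T : Subgroup L), Commute c t → CenD t c → c = 1 ∨ c = t) ∧
    (∀ c ∈ (T : Subgroup L), Commute c t → orderOf c = 2 → c = t ∨ c = w ∨ c = t * w) ∧
    IsPGroup 2 (centralizer ({w} : Set L)) ∧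
    (∀ a ∈ (T : Subgroup L), Commute a t → ∀ b ∈ (T : Subgroup L), Commute b t → Commute a b) := by
  have hwne := invol_ne hG hna ht hy0 hy01 hs hsD hw1
  have hwt : Commute w t := (commute_of_mem_zpowers hw1 hst.symm).symm
  have hwT : w ∈ (T : Subgroup L) := zpowers_le.2 hs hw1
  have hS0 : ∀ c ∈ (T : Subgroup L), Commute c t → CenD t c → c = 1 ∨ c = t := by
    intro c hc hct hcD
    refine or_iff_not_imp_left.2 fun hc1 => by_contra fun hne' => ?_
    exact not_cenD_invol hG hna ht hy0 hy01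
      (invol_iff.2 ⟨sq_eq_one_of_cenD hG hna ht hy0 hy01 hs hst hs2 hsD hc hct hcD, hc1⟩)
      hct hne' hcD
  have hinv : ∀ c ∈ (T : Subgroup L), Commute c t → orderOf c = 2 →
      c = t ∨ c = w ∨ c = t * w := by
    intro c hc hct hco
    refine or_iff_not_imp_left.2 fun hne' => ?_
    have hD : CenD t (c * w) := by
      intro y hy
      rw [show c * w * y * (c * w)⁻¹ = c * (w * y * w⁻¹) * c⁻¹ by group,
        other_inverts hG hna ht hy0 hy01 hw hwt hwne hy,
        other_inverts hG hna ht hy0 hy01 hco hct hne' (inv_mem hy), inv_inv]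
    rcases hS0 _ (mul_mem hc hwT) (hct.mul_left hwt) hD with e | e
    · left; rw [eq_inv_of_mul_eq_one_left e, invol_inv hw]
    · right; rw [← e, mul_assoc, invol_mul_self hw, mul_one]
  refine ⟨hS0, hinv, ?_, ?_⟩
  · refine isPGroup_cent_of_oddD hG hw ((eq_bot_iff_forall _).2 fun y hy => by_contra fun hy1 => ?_)
    obtain ⟨k, hk⟩ := exists_orderOf_two_pow hs
    have hsw : Commute s w := commute_of_mem_zpowers hw1 (Commute.refl s)
    have hsD' : CenD w s := fun y hy' => mul_inv_eq_iff_eq_mul.2 (hG.commute_oddD hw hw1 hk hy')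
    have := sq_mul_eq_one hG hna hw hy hy1 hs htT hsw hsD' ht hwt.symm (Ne.symm hwne)
    refine hs2 ?_
    rw [← this, hst.eq]
    calc s * s = t * t * (s * s) := by rw [invol_mul_self ht, one_mul]
      _ = t * (t * s) * s := by group
      _ = t * (s * t) * s := by rw [hst.eq]
      _ = t * s * (t * s) := by group
  · have hcomD : ∀ a, Commute a t → ∀ b, Commute b t → CenD t (a * b * a⁻¹ * b⁻¹) := by
      intro a ha b hb y hy
      have hy' := (hG.mem_oddD ht).1 hy
      obtain ⟨i, hi⟩ := mem_zpowers_iff.1 (hG.odd_normal ht hy'.1 hy'.2 ha)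
      obtain ⟨j, hj⟩ := mem_zpowers_iff.1 (hG.odd_normal ht hy'.1 hy'.2 hb)
      have key : ∀ z : L, a * b * z * (a * b)⁻¹ = a * (b * z * b⁻¹) * a⁻¹ := fun z => by group
      have hab : a * b * y * (a * b)⁻¹ = b * a * y * (b * a)⁻¹ := by
        rw [key, show b * a * y * (b * a)⁻¹ = b * (a * y * a⁻¹) * b⁻¹ by group, ← hi, ← hj,
          ← conj_zpow, ← conj_zpow, ← hi, ← hj, ← zpow_mul, ← zpow_mul, mul_comm]
      calc a * b * a⁻¹ * b⁻¹ * y * (a * b * a⁻¹ * b⁻¹)⁻¹
          = a * b * ((b * a)⁻¹ * y * (b * a)) * (a * b)⁻¹ := by group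
        _ = y := by
          have hy2 : (b * a)⁻¹ * y * (b * a) ∈ oddD t := by
            have := oddD_conj_mem hG (g := (b * a)⁻¹) ht hy
            rwa [show (b * a)⁻¹ * t * (b * a)⁻¹⁻¹ = t by
              rw [inv_inv, mul_assoc, ← (hb.mul_left ha).eq]; group, inv_inv] at this
          have hy2' := (hG.mem_oddD ht).1 hy2
          obtain ⟨i, hi⟩ := mem_zpowers_iff.1 (hG.odd_normal ht hy2'.1 hy2'.2 ha)
          obtain ⟨j, hj⟩ := mem_zpowers_iff.1 (hG.odd_normal ht hy2'.1 hy2'.2 hb)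
          calc a * b * ((b * a)⁻¹ * y * (b * a)) * (a * b)⁻¹
              = b * a * ((b * a)⁻¹ * y * (b * a)) * (b * a)⁻¹ := by
                rw [key, show ∀ z : L, b * a * z * (b * a)⁻¹ = b * (a * z * a⁻¹) * b⁻¹ from
                  fun z => by group, ← hi, ← hj, ← conj_zpow, ← conj_zpow, ← hi, ← hj, ← zpow_mul,
                  ← zpow_mul, mul_comm]
            _ = y := by group
    have hcom : ∀ a ∈ (T : Subgroup L), Commute a t → ∀ b ∈ (T : Subgroup L), Commute b t →
        a * b * a⁻¹ * b⁻¹ = 1 ∨ a * b * a⁻¹ * b⁻¹ = t := fun a ha hat b hb hbt =>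
      hS0 _ (mul_mem (mul_mem (mul_mem ha hb) (inv_mem ha)) (inv_mem hb))
        (((hat.mul_left hbt).mul_left hat.inv_left).mul_left hbt.inv_left) (hcomD a hat b hbt)
    obtain ⟨k, hk⟩ := exists_orderOf_two_pow hs
    obtain ⟨w', hw', hw2', hw1'⟩ := exists_invol_sq hk hs2
    have hww : w' = w :=
      (invol_unique_zpowers hw' hw1').2.trans (invol_unique_zpowers hw hw1).2.symm
    rw [hww] at hw2'
    have hcw : ∀ a ∈ (T : Subgroup L), Commute a t → Commute a w := by
      intro a ha hat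
      refine commute_of_mem_zpowers hw2' ?_
      rcases hcom a ha hat s hs hst with e | e
      · have : Commute a s := mul_inv_eq_iff_eq_mul.1 (mul_inv_eq_one.1 e)
        exact this.mul_right this
      · have h1 : a * s * a⁻¹ = t * s := by rw [← e]; group
        refine mul_inv_eq_iff_eq_mul.1 ?_
        calc a * (s * s) * a⁻¹ = (a * s * a⁻¹) * (a * s * a⁻¹) := by group
          _ = t * (s * t) * s := by rw [h1]; group
          _ = t * (t * s) * s := by rw [hst.eq]
          _ = s * s := by rw [← mul_assoc t t, invol_mul_self ht, one_mul]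
    intro a ha hat b hb hbt
    by_cases hbb : b * b = 1
    · by_cases hb1 : b = 1
      · subst hb1; exact Commute.one_right a
      rcases hinv b hb hbt (invol_iff.2 ⟨hbb, hb1⟩) with e | e | e <;> subst e
      · exact hat
      · exact hcw a ha hat
      · exact hat.mul_right (hcw a ha hat)
    · obtain ⟨i, hi⟩ := exists_orderOf_two_pow hb
      obtain ⟨wb, hwb, -, hwb1⟩ := exists_invol_sq hi hbb
      have hbD : ¬ CenD t b := fun h => by
        rcases hS0 b hb hbt h with e | e
        · exact hbb (by rw [e, one_mul])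
        · exact hbb (by rw [e, invol_mul_self ht])
      have hwbne := invol_ne hG hna ht hy0 hy01 hb hbD hwb1
      have hawb : Commute a wb := by
        rcases hinv wb (zpowers_le.2 hb hwb1) (commute_of_mem_zpowers hwb1 hbt.symm).symm hwb with
          e | e | e
        · exact absurd e hwbne
        · exact e ▸ hcw a ha hat
        · exact e ▸ hat.mul_right (hcw a ha hat)
      have hm : a * b * a⁻¹ * b⁻¹ ∈ zpowers b :=
        mul_mem ((hG.conj_mem_iff hwb hwb1).2 hawb) (inv_mem (mem_zpowers b))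
      rcases hcom a ha hat b hb hbt with e | e
      · exact mul_inv_eq_iff_eq_mul.1 (mul_inv_eq_one.1 e)
      · exfalso
        rw [e] at hm
        exact hwbne ((invol_unique_zpowers hwb hwb1).2.trans (invol_unique_zpowers ht hm).2.symm)

theorem oddD_conj_ne_bot (g : L) : oddD (g * t * g⁻¹) ≠ ⊥ := fun h => by
  have := oddD_conj_mem hG (g := g) ht hy0
  rw [h, mem_bot] at this
  exact conj_ne_one hy01 this

/-- An element of order at least four whose involution has non-trivial odd part centralises it. -/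
theorem beta_sylow {T : Sylow 2 L} (htT : t ∈ (T : Subgroup L))
    (hfix : ∀ a ∈ (T : Subgroup L), Commute a t) {s : L}
    (hs : s ∈ (T : Subgroup L)) (hs2 : s * s ≠ 1) (hsD : ¬ CenD t s) : False := by
  haveI : Fact (Nat.Prime 2) := ⟨Nat.prime_two⟩
  obtain ⟨k, hk⟩ := exists_orderOf_two_pow hs
  obtain ⟨w, hw, hw2, hw1⟩ := exists_invol_sq hk hs2
  obtain ⟨hS0, hinv, hCw, habel⟩ :=
    beta_invol hG hna ht hy0 hy01 htT hs (hfix s hs) hs2 hsD hw hw1
  refine SmallGroups.Sylow.not_normalizer_le_centralizer hna T (fun e => ?_) fun n hn => ?_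
  · rw [e, mem_bot] at htT; exact invol_ne_one ht htT
  suffices hnT : n ∈ (T : Subgroup L) from
    mem_centralizer_iff.2 fun a ha => habel a ha (hfix a ha) n hnT (hfix n hnT)
  have hconj : ∀ a ∈ (T : Subgroup L), n * a * n⁻¹ ∈ (T : Subgroup L) :=
    fun a ha => (mem_normalizer_iff.1 hn a).1 ha
  have h2el : ∃ j, orderOf n = 2 ^ j := by
    have hD' : ∀ g, oddD (g * t * g⁻¹) ≠ ⊥ := oddD_conj_ne_bot hG hna ht hy0 hy01
    have hwD : oddD w = ⊥ := by
      refine (eq_bot_iff_forall _).2 fun y hy => ?_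
      have hy' := (hG.mem_oddD hw).1 hy
      obtain ⟨j, hj⟩ := IsPGroup.iff_orderOf.1 hCw ⟨y, mem_cent.2 hy'.1⟩
      rw [Subgroup.orderOf_mk] at hj
      exact eq_one_of_odd_two_pow hy'.2 hj
    have hcases : ∀ u, u ∈ (T : Subgroup L) → orderOf u = 2 → u = t ∨ u = w ∨ u = t * w :=
      fun u hu => hinv u hu (hfix u hu)
    rcases hcases _ (hconj t htT) ((orderOf_conj_eq n t).trans ht) with e | e | e
    · -- `n` fixes `t`
      have hnt : Commute n t := mul_inv_eq_iff_eq_mul.1 e
      have hwT := zpowers_le.2 hs hw1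
      have hnn : Commute (n * n) w := by
        refine mul_inv_eq_iff_eq_mul.1 ?_
        have h2 : n * n * w * (n * n)⁻¹ = n * (n * w * n⁻¹) * n⁻¹ := by group
        rcases hcases _ (hconj w hwT) ((orderOf_conj_eq n w).trans hw) with e' | e' | e'
        · have : w = t := by
            apply (MulAut.conj n).injective
            show n * w * n⁻¹ = n * t * n⁻¹
            rw [e', e]
          exact absurd this (invol_ne hG hna ht hy0 hy01 hs hsD hw1)
        · rw [h2, e', e']
        · rw [h2, e', show n * (t * w) * n⁻¹ = (n * t * n⁻¹) * (n * w * n⁻¹) by group, e, e',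
            ← mul_assoc, invol_mul_self ht, one_mul]
      obtain ⟨j, hj⟩ := IsPGroup.iff_orderOf.1 hCw ⟨n * n, mem_cent.2 hnn⟩
      rw [Subgroup.orderOf_mk] at hj
      obtain ⟨i, -, hi⟩ := (Nat.dvd_prime_pow Nat.prime_two).1
        (orderOf_dvd_of_pow_eq_one (show n ^ 2 ^ (j + 1) = 1 by
          rw [pow_succ', pow_mul, pow_two, ← hj, pow_orderOf_eq_one]))
      exact ⟨i, hi⟩
    · exact absurd (e ▸ hwD) (hD' n)
    · -- `w` is the only involution which is a square
      have hsq : n * w * n⁻¹ ∈ zpowers (n * s * n⁻¹) := by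
        obtain ⟨j, rfl⟩ := mem_zpowers_iff.1 hw1
        rw [← conj_zpow]; exact zpow_mem (mem_zpowers _) j
      have hss : ∀ b ∈ (T : Subgroup L), b * b ≠ 1 → ∀ u ∈ zpowers b, orderOf u = 2 → u = w := by
        intro b hb hbb u hu huo
        have hbD : ¬ CenD t b := fun h => by
          rcases hS0 b hb (hfix b hb) h with e' | e'
          · exact hbb (by rw [e', one_mul])
          · exact hbb (by rw [e', invol_mul_self ht])
        rcases hcases u (zpowers_le.2 hb hu) huo with e' | e' | e'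
        · exact absurd e' (invol_ne hG hna ht hy0 hy01 hb hbD hu)
        · exact e'
        · exfalso
          obtain ⟨-, -, hCu, -⟩ :=
            beta_invol hG hna ht hy0 hy01 htT hb (hfix b hb) hbb hbD huo hu
          refine hD' n ((eq_bot_iff_forall _).2 fun y hy => ?_)
          rw [e] at hy
          rw [e'] at hCu huo
          have hy' := (hG.mem_oddD huo).1 hy
          obtain ⟨j, hj⟩ := IsPGroup.iff_orderOf.1 hCu ⟨y, mem_cent.2 hy'.1⟩
          rw [Subgroup.orderOf_mk] at hj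
          exact eq_one_of_odd_two_pow hy'.2 hj
      have hne1 : n * s * n⁻¹ * (n * s * n⁻¹) ≠ 1 := fun e' => hs2 (by
        rw [show n * s * n⁻¹ * (n * s * n⁻¹) = n * (s * s) * n⁻¹ by group] at e'
        exact conj_eq_one_iff.1 e')
      have hnw : Commute n w := mul_inv_eq_iff_eq_mul.1
        (hss _ (hconj s hs) hne1 _ hsq ((orderOf_conj_eq n w).trans hw))
      obtain ⟨j, hj⟩ := IsPGroup.iff_orderOf.1 hCw ⟨n, mem_cent.2 hnw⟩
      exact ⟨j, by rwa [Subgroup.orderOf_mk] at hj⟩
  obtain ⟨j, hj⟩ := h2el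
  have hp : IsPGroup 2 (zpowers n) := IsPGroup.of_card (n := j) (by rw [Nat.card_zpowers, hj])
  have hsup := hp.to_sup_of_normal_right' T.2 (zpowers_le.2 hn)
  exact (T.3 hsup le_sup_right).le (le_sup_left (a := zpowers n) (mem_zpowers n))

/-- `t` central in a Sylow subgroup: recognition. -/
theorem sylow_case {T : Sylow 2 L} (htT : t ∈ (T : Subgroup L))
    (hfix : ∀ a ∈ (T : Subgroup L), Commute a t) : OddPSL L := by
  classical
  haveI : Fact (Nat.Prime 2) := ⟨Nat.prime_two⟩
  -- another involution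
  obtain ⟨v, hvT, hv, hne⟩ : ∃ v ∈ (T : Subgroup L), orderOf v = 2 ∧ v ≠ t := by
    by_contra hno
    push Not at hno
    exact zstar_false hna T ht htT fun g hg => hno _ hg ((orderOf_conj_eq g t).trans ht)
  have hvt := hfix v hvT
  have halpha : ∀ s ∈ (T : Subgroup L), ¬ CenD t s → s * s = 1 := fun s hs hsD =>
    by_contra fun hs2 => beta_sylow hG hna ht hy0 hy01 htT hfix hs hs2 hsD
  have hout : ∀ s ∈ (T : Subgroup L), ¬ CenD t s → orderOf s = 2 ∧ s ≠ t := by
    intro s hs hsD
    refine ⟨invol_iff.2 ⟨halpha s hs hsD, fun e => hsD fun y _ => by rw [e]; group⟩, ?_⟩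
    rintro rfl
    exact hsD fun y hy => mul_inv_eq_iff_eq_mul.2 ((hG.mem_oddD ht).1 hy).1.symm
  have hcD : ∀ a : L, a ∈ centralizer (oddD t : Set L) ↔ CenD t a := fun a => by
    rw [mem_centralizer_iff]
    exact ⟨fun h y hy => mul_inv_eq_iff_eq_mul.2 (h y hy).symm,
      fun h y hy => (mul_inv_eq_iff_eq_mul.1 (h y hy)).symm⟩
  set S0 : Subgroup L := (T : Subgroup L) ⊓ centralizer (oddD t : Set L) with hS0def
  have hmem : ∀ a, a ∈ S0 ↔ a ∈ (T : Subgroup L) ∧ CenD t a := fun a => by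
    rw [hS0def, mem_inf, hcD]
  have htS0 : t ∈ S0 :=
    (hmem t).2 ⟨htT, fun y hy => mul_inv_eq_iff_eq_mul.2 ((hG.mem_oddD ht).1 hy).1.symm⟩
  have hvD : ¬ CenD t v := not_cenD_invol hG hna ht hy0 hy01 hv hvt hne
  have hinvS : ∀ c ∈ S0, v * c * v⁻¹ = c⁻¹ := by
    intro c hc
    have := sq_mul_eq_one hG hna ht hy0 hy01 ((hmem c).1 hc).1 hvT
      (hfix c ((hmem c).1 hc).1) ((hmem c).1 hc).2 hv hvt hne
    rw [invol_inv hv]
    exact eq_inv_of_mul_eq_one_right (by rw [← this]; group)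
  have hS0comm : ∀ a ∈ S0, ∀ b ∈ S0, Commute a b := by
    intro a ha b hb
    have h1 := hinvS _ (mul_mem ha hb)
    rw [show v * (a * b) * v⁻¹ = (v * a * v⁻¹) * (v * b * v⁻¹) by group, hinvS a ha, hinvS b hb,
      mul_inv_rev] at h1
    exact (Commute.inv_inv_iff).1 h1
  have huniq : ∀ a ∈ S0, orderOf a = 2 → a = t := by
    intro a ha hao
    by_contra hne'
    exact not_cenD_invol hG hna ht hy0 hy01 hao (hfix a ((hmem a).1 ha).1) hne' ((hmem a).1 ha).2
  have hcyc : IsCyclic S0 := by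
    rcases Lib.PGroups.isCyclic_or_quaternion (G := S0) (p := 2) (T.2.to_le inf_le_left)
      (fun x y hx hy => by
        have : x = y := Subtype.ext ((huniq x x.2 (by rwa [Subgroup.orderOf_coe])).trans
          (huniq y y.2 (by rwa [Subgroup.orderOf_coe])).symm)
        rw [this]; exact mem_zpowers y) with h | ⟨-, n, hn, ⟨e⟩⟩
    · exact h
    · exfalso
      have h1 := congrArg e (Subtype.ext (hS0comm _ (e.symm (QuaternionGroup.a 1)).2 _
        (e.symm (QuaternionGroup.xa 0)).2).eq : e.symm (QuaternionGroup.a 1) *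
          e.symm (QuaternionGroup.xa 0) = e.symm (QuaternionGroup.xa 0) * e.symm (QuaternionGroup.a 1))
      rw [map_mul, map_mul, e.apply_symm_apply, e.apply_symm_apply, QuaternionGroup.a_mul_xa,
        QuaternionGroup.xa_mul_a, QuaternionGroup.xa.injEq, zero_sub, zero_add,
        neg_eq_iff_add_eq_zero] at h1
      rw [show (1 : ZMod (2 * 2 ^ n)) + 1 = ((2 : ℕ) : ZMod (2 * 2 ^ n)) by norm_num,
        ZMod.natCast_eq_zero_iff] at h1
      have := Nat.le_of_dvd (by norm_num) h1
      have : 2 ≤ 2 ^ n := le_self_pow₀ (by norm_num) (by omega)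
      omega
  have hidx : S0.relIndex (T : Subgroup L) = 2 := by
    refine index_eq_two_iff.2 ⟨⟨v, hvT⟩, fun b => ?_⟩
    have hbT := b.2
    have key : CenD t b ∨ CenD t ((b : L) * v) := by
      refine or_iff_not_imp_left.2 fun hbD y hy => ?_
      obtain ⟨hbo, hbne⟩ := hout b hbT hbD
      rw [show (b : L) * v * y * ((b : L) * v)⁻¹ = b * (v * y * v⁻¹) * (b : L)⁻¹ by group,
        other_inverts hG hna ht hy0 hy01 hv hvt hne hy,
        other_inverts hG hna ht hy0 hy01 hbo (hfix _ hbT) hbne (inv_mem hy), inv_inv]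
    by_cases hb : CenD t b
    · refine Or.inr ⟨mem_subgroupOf.2 ((hmem _).2 ⟨hbT, hb⟩), fun h => hvD ?_⟩
      have := ((hmem _).1 (mem_subgroupOf.1 h)).2
      have h2 := hb.inv.mul this
      simpa using h2
    · exact Or.inl ⟨mem_subgroupOf.2 ((hmem _).2 ⟨mul_mem hbT hvT, key.resolve_left hb⟩),
        fun h => hb ((hmem _).1 (mem_subgroupOf.1 h)).2⟩
  obtain ⟨a, ha⟩ := S0.isCyclic_iff_exists_zpowers_eq_top.1 hcyc
  have haS0 : a ∈ S0 := ha ▸ mem_zpowers a
  have haT := ((hmem a).1 haS0).1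
  have hcard0 : Nat.card S0 = orderOf a := by rw [← ha, Nat.card_zpowers]
  have hcard : Nat.card (T : Subgroup L) = 2 * orderOf a := by
    have h1 := card_mul_index (S0.subgroupOf (T : Subgroup L))
    rw [Nat.card_congr (subgroupOfEquivOfLe (inf_le_left : S0 ≤ _)).toEquiv, hcard0,
      show (S0.subgroupOf (T : Subgroup L)).index = 2 from hidx] at h1
    rw [← h1, mul_comm]
  have hn2 : 2 ≤ orderOf a := by
    rw [← hcard0, ← ht]
    exact Nat.le_of_dvd Nat.card_pos (orderOf_dvd_natCard S0 htS0)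
  haveI : NeZero (orderOf a) := ⟨by omega⟩
  obtain ⟨e⟩ := Lib.PGroups.nonempty_dihedral_equiv (G := (T : Subgroup L)) (m := orderOf a)
    (a := ⟨a, haT⟩) (x := ⟨v, hvT⟩) (Subgroup.orderOf_mk a haT)
    (Subtype.ext (by simpa [pow_two] using invol_mul_self hv))
    (Subtype.ext (hinvS a haS0)) (fun h => by
      obtain ⟨j, hj⟩ := mem_zpowers_iff.1 h
      have : a ^ j = v := by simpa using congrArg Subtype.val hj
      exact hvD (this ▸ ((hmem _).1 (zpow_mem haS0 j)).2)) hcard
  refine Cfsg.Agent.S0508.result T (orderOf a) hn2 ⟨e⟩ t ht htT (fun s hs => hfix s hs) (oddD t)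
    rfl (fun _ => ⟨hcyc, hidx⟩) ?_ ?_
  · intro s hs hsD y hy
    rw [hcD] at hsD
    obtain ⟨hso, hsne⟩ := hout s hs hsD
    exact other_inverts hG hna ht hy0 hy01 hso (hfix s hs) hsne hy
  · intro Y hY hY1 n hn
    rw [mem_cent]
    obtain ⟨y, hy, hy1⟩ := Y.bot_or_exists_ne_one.resolve_left hY1
    have hy' := (hG.mem_oddD ht).1 (hY hy)
    have hy2 := (hG.mem_oddD ht).1 (hY ((mem_normalizer_iff.1 hn y).1 hy))
    have hto : orderOf (n * t * n⁻¹) = 2 := (orderOf_conj_eq n t).trans ht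
    have hiff := hG.cent_eq ht hto hy2.1 (commute_conj_iff.2 hy'.1) hy2.2 (conj_ne_one hy1)
    exact mul_inv_eq_iff_eq_mul.1
      (hG.unique_central hna ht hto hy0 hy01 fun c hc => (hiff c).1 hc)

/-- `t` moved by a Sylow subgroup: its centraliser there is a four group. -/
theorem moved_case {T : Sylow 2 L} (htT : t ∈ (T : Subgroup L))
    (hmv : ∃ a ∈ (T : Subgroup L), ¬ Commute a t) :
    ∃ z ∈ (T : Subgroup L), orderOf z = 2 ∧ (∀ a ∈ (T : Subgroup L), Commute a z) ∧ z ≠ t ∧
      ∀ a ∈ (T : Subgroup L), Commute a t → a = 1 ∨ a = t ∨ a = z ∨ a = t * z := by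
  haveI : Fact (Nat.Prime 2) := ⟨Nat.prime_two⟩
  obtain ⟨z, hzT, hz, hzc⟩ := exists_central_invol_sylow T htT (invol_ne_one ht)
  have hne : z ≠ t := by
    rintro rfl
    obtain ⟨a, ha, hat⟩ := hmv
    exact hat (hzc a ha)
  have hzt : Commute z t := (hzc t htT).symm
  refine ⟨z, hzT, hz, hzc, hne, ?_⟩
  set C := centralizer ({t} : Set L)
  have hlt : (T : Subgroup L) ⊓ C < (T : Subgroup L) := by
    refine lt_of_le_of_ne inf_le_left fun e => ?_
    obtain ⟨a, ha, hat⟩ := hmv
    rw [← e] at ha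
    exact hat (mem_cent.1 ha.2)
  haveI : Group.IsNilpotent (T : Subgroup L) := T.2.isNilpotent
  obtain ⟨x, hx, hxS⟩ := SetLike.exists_of_lt
    (Cfsg.Agent.Lib.Involutions.StronglyEmbedded.lt_inf_normalizer hlt)
  have hxt : ¬ Commute x t := fun h => hxS ⟨hx.1, mem_cent.2 h⟩
  have hxS' : ∀ c ∈ (T : Subgroup L), Commute c t →
      x * c * x⁻¹ ∈ (T : Subgroup L) ∧ Commute (x * c * x⁻¹) t := fun c hc hct => by
    have := (mem_normalizer_iff.1 hx.2 c).1 ⟨hc, mem_cent.2 hct⟩
    exact ⟨this.1, mem_cent.1 this.2⟩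
  have hto : orderOf (x * t * x⁻¹) = 2 := (orderOf_conj_eq x t).trans ht
  have hxne : x * t * x⁻¹ ≠ t := fun e => hxt (mul_inv_eq_iff_eq_mul.1 e)
  by_cases halpha : ∀ s ∈ (T : Subgroup L), Commute s t → ¬ CenD t s → s * s = 1
  · have hS0 : ∀ c ∈ (T : Subgroup L), Commute c t → CenD t c → c = 1 ∨ c = t := by
      intro c hc hct hcD
      refine or_iff_not_imp_left.2 fun hc1 => by_contra fun hne' => ?_
      by_cases hcc : c * c = 1
      · exact not_cenD_invol hG hna ht hy0 hy01 (invol_iff.2 ⟨hcc, hc1⟩) hct hne' hcD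
      obtain ⟨hc', hct'⟩ := hxS' c hc hct
      have hne2 : x * c * x⁻¹ * (x * c * x⁻¹) ≠ 1 := fun e => hcc (by
        rw [show x * c * x⁻¹ * (x * c * x⁻¹) = x * (c * c) * x⁻¹ by group] at e
        exact conj_eq_one_iff.1 e)
      have hcD' : CenD t (x * c * x⁻¹) := by_contra fun h => hne2 (halpha _ hc' hct' h)
      obtain ⟨k, hk⟩ := exists_orderOf_two_pow hc
      obtain ⟨u, hu, -, hu1⟩ := exists_invol_sq hk hcc
      have hut : u = t := by
        by_contra hne''
        exact not_cenD_invol hG hna ht hy0 hy01 hu (commute_of_mem_zpowers hu1 hct.symm).symm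
          hne'' (hcD.of_mem_zpowers hu1)
      rw [hut] at hu1
      have hmem : x * t * x⁻¹ ∈ zpowers (x * c * x⁻¹) := by
        obtain ⟨j, rfl⟩ := mem_zpowers_iff.1 hu1
        rw [← conj_zpow]; exact zpow_mem (mem_zpowers _) j
      exact not_cenD_invol hG hna ht hy0 hy01 hto (commute_of_mem_zpowers hmem hct'.symm).symm hxne
        (hcD'.of_mem_zpowers hmem)
    intro a ha hat
    by_cases haD : CenD t a
    · rcases hS0 a ha hat haD with e | e <;> simp [e]
    have hao : orderOf a = 2 :=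
      invol_iff.2 ⟨halpha a ha hat haD, fun e => haD fun y _ => by rw [e]; group⟩
    have hane : a ≠ t := fun e =>
      haD fun y hy => mul_inv_eq_iff_eq_mul.2 (e ▸ ((hG.mem_oddD ht).1 hy).1.symm)
    have : CenD t (a * z) := fun y hy => by
      rw [show a * z * y * (a * z)⁻¹ = a * (z * y * z⁻¹) * a⁻¹ by group,
        other_inverts hG hna ht hy0 hy01 hz hzt hne hy,
        other_inverts hG hna ht hy0 hy01 hao hat hane (inv_mem hy), inv_inv]
    rcases hS0 _ (mul_mem ha hzT) (hat.mul_left hzt) this with e | e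
    · right; right; left
      rw [eq_inv_of_mul_eq_one_left e, invol_inv hz]
    · right; right; right
      rw [← e, mul_assoc, invol_mul_self hz, mul_one]
  exfalso
  push Not at halpha
  obtain ⟨s, hs, hst, hsD, hs2⟩ := halpha
  obtain ⟨k, hk⟩ := exists_orderOf_two_pow hs
  obtain ⟨w, hw, hw2, hw1⟩ := exists_invol_sq hk hs2
  obtain ⟨hS0, hinv, hCw, habel⟩ := beta_invol hG hna ht hy0 hy01 htT hs hst hs2 hsD hw hw1
  have hD' := oddD_conj_ne_bot hG hna ht hy0 hy01
  have hbot : ∀ u, orderOf u = 2 → IsPGroup 2 (centralizer ({u} : Set L)) → oddD u = ⊥ := by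
    intro u hu hp
    refine (eq_bot_iff_forall _).2 fun y hy => ?_
    have hy' := (hG.mem_oddD hu).1 hy
    obtain ⟨j, hj⟩ := IsPGroup.iff_orderOf.1 hp ⟨y, mem_cent.2 hy'.1⟩
    rw [Subgroup.orderOf_mk] at hj
    exact eq_one_of_odd_two_pow hy'.2 hj
  have hwT : w ∈ (T : Subgroup L) := zpowers_le.2 hs hw1
  have hwt : Commute w t := (commute_of_mem_zpowers hw1 hst.symm).symm
  have hwne := invol_ne hG hna ht hy0 hy01 hs hsD hw1
  have hxtw : x * t * x⁻¹ = t * w := by
    obtain ⟨h1, h2⟩ := hxS' t htT (Commute.refl t)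
    rcases hinv _ h1 h2 hto with e | e | e
    · exact absurd e hxne
    · exact absurd (e ▸ hbot w hw hCw) (hD' x)
    · exact e
  -- every element of order at least four in the centraliser of `t` powers to `w`
  have hsqw : ∀ b ∈ (T : Subgroup L), Commute b t → b * b ≠ 1 → ∀ u ∈ zpowers b, orderOf u = 2 →
      u = w := by
    intro b hb hbt hbb u hu huo
    have hbD : ¬ CenD t b := fun h => by
      rcases hS0 b hb hbt h with e' | e'
      · exact hbb (by rw [e', one_mul])
      · exact hbb (by rw [e', invol_mul_self ht])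
    rcases hinv u (zpowers_le.2 hb hu) (commute_of_mem_zpowers hu hbt.symm).symm huo with
      e' | e' | e'
    · exact absurd e' (invol_ne hG hna ht hy0 hy01 hb hbD hu)
    · exact e'
    · exfalso
      obtain ⟨-, -, hCu, -⟩ := beta_invol hG hna ht hy0 hy01 htT hb hbt hbb hbD huo hu
      exact hD' x (hxtw ▸ e' ▸ hbot u huo hCu)
  have hxw : x * w * x⁻¹ = w := by
    obtain ⟨h1, h2⟩ := hxS' s hs hst
    refine hsqw _ h1 h2 (fun e => hs2 ?_) _ ?_ ((orderOf_conj_eq x w).trans hw)
    · rw [show x * s * x⁻¹ * (x * s * x⁻¹) = x * (s * s) * x⁻¹ by group] at e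
      exact conj_eq_one_iff.1 e
    · obtain ⟨j, rfl⟩ := mem_zpowers_iff.1 hw1
      rw [← conj_zpow]; exact zpow_mem (mem_zpowers _) j
  have hzw : z = w := by
    rcases hinv z hzT hzt hz with e | e | e
    · exact absurd e hne
    · exact e
    · exfalso
      have h1 : x * (t * w) * x⁻¹ = t * w := by
        rw [← e, (hzc x hx.1).eq, mul_inv_cancel_right]
      rw [show x * (t * w) * x⁻¹ = (x * t * x⁻¹) * (x * w * x⁻¹) by group, hxtw, hxw, mul_assoc,
        invol_mul_self hw, mul_one] at h1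
      exact invol_ne_one hw (mul_eq_left.1 h1.symm)
  subst hzw
  -- a square root of the central involution
  obtain ⟨r, hr, hrr⟩ : ∃ r ∈ zpowers s, r * r = z := by
    obtain ⟨i, rfl⟩ := mem_zpowers_iff.1 hw2
    exact ⟨s ^ i, zpow_mem (mem_zpowers s) i, (Commute.refl s).mul_zpow i |>.symm⟩
  have hrT : r ∈ (T : Subgroup L) := zpowers_le.2 hs hr
  have hrt : Commute r t := (commute_of_mem_zpowers hr hst.symm).symm
  have hr4 : ∀ q : L, q * q = z → z ∈ zpowers q := fun q hq =>
    hq ▸ mul_mem (mem_zpowers q) (mem_zpowers q)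
  have htr : t * r * (t * r) = z := by
    calc t * r * (t * r) = t * (r * t) * r := by group
      _ = t * (t * r) * r := by rw [hrt.eq]
      _ = z := by rw [← mul_assoc t t, invol_mul_self ht, one_mul, hrr]
  have hfour : ∀ q : L, q * q = z → ∀ a ∈ (T : Subgroup L), a * q * a⁻¹ = q ∨ a * q * a⁻¹ = q * z := by
    intro q hq a ha
    obtain ⟨i, hi⟩ := mem_zpowers_iff.1 ((hG.conj_mem_iff hz (hr4 q hq)).2 (hzc a ha))
    have hq4 : q ^ (4 : ℤ) = 1 := by
      rw [show (4 : ℤ) = 2 * 2 by norm_num, zpow_mul, zpow_two, zpow_two, hq, invol_mul_self hz]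
    have hsplit : q ^ i = q ^ (i % 4) := by
      conv_lhs => rw [← Int.emod_add_mul_ediv i 4, zpow_add, zpow_mul, hq4, one_zpow, mul_one]
    have h04 : i % 4 = 0 ∨ i % 4 = 1 ∨ i % 4 = 2 ∨ i % 4 = 3 := by omega
    have hqz : a * q * a⁻¹ * (a * q * a⁻¹) = z := by
      rw [show a * q * a⁻¹ * (a * q * a⁻¹) = a * (q * q) * a⁻¹ by group, hq, (hzc a ha).eq,
        mul_inv_cancel_right]
    rcases h04 with e | e | e | e <;> rw [hsplit, e] at hi
    · rw [zpow_zero] at hi
      rw [← hi, one_mul] at hqz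
      exact absurd hqz.symm (invol_ne_one hz)
    · rw [zpow_one] at hi; exact Or.inl hi.symm
    · rw [zpow_two, hq] at hi
      rw [← hi, invol_mul_self hz] at hqz
      exact absurd hqz.symm (invol_ne_one hz)
    · rw [show (3 : ℤ) = 1 + 2 by norm_num, zpow_add, zpow_one, zpow_two, hq] at hi
      exact Or.inr hi.symm
  have hzr : Commute r z := hzc r hrT
  have hat : ∀ a ∈ (T : Subgroup L), a * t * a⁻¹ = t ∨ a * t * a⁻¹ = t * z := by
    intro a ha
    have h1 : a * t * a⁻¹ = (a * (t * r) * a⁻¹) * (a * r * a⁻¹)⁻¹ := by group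
    rcases hfour r hrr a ha with e1 | e1 <;> rcases hfour (t * r) htr a ha with e2 | e2 <;>
      rw [h1, e1, e2]
    · left; group
    · right; rw [mul_assoc t r z, hzr.eq]; group
    · right
      rw [mul_inv_rev, invol_inv hz, mul_assoc t r, ← mul_assoc r z, hzr.eq]; group
    · left; group
  -- every element of order at least four powers to `z`
  have hall : ∀ e ∈ (T : Subgroup L), e * e ≠ 1 → ∀ u ∈ zpowers e, orderOf u = 2 → u = z := by
    intro e he hee u hu huo
    by_cases het : Commute e t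
    · exact hsqw e he het hee u hu huo
    obtain ⟨i, hi⟩ := exists_orderOf_two_pow he
    obtain ⟨u', hu'o, hu'2, hu'1⟩ := exists_invol_sq hi hee
    have huu : u = u' :=
      (invol_unique_zpowers huo hu).2.trans (invol_unique_zpowers hu'o hu'1).2.symm
    subst huu
    have he2t : Commute (e * e) t := by
      refine mul_inv_eq_iff_eq_mul.1 ?_
      have e1 := (hat e he).resolve_left fun h => het (mul_inv_eq_iff_eq_mul.1 h)
      rw [show e * e * t * (e * e)⁻¹ = e * (e * t * e⁻¹) * e⁻¹ by group, e1,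
        show e * (t * z) * e⁻¹ = (e * t * e⁻¹) * (e * z * e⁻¹) by group, e1, (hzc e he).eq,
        mul_inv_cancel_right, mul_assoc, invol_mul_self hz, mul_one]
    have hut : Commute u t := (commute_of_mem_zpowers hu'2 he2t.symm).symm
    rcases hinv u (zpowers_le.2 he hu) hut huo with h | h | h
    · exact absurd (h ▸ commute_of_mem_zpowers hu (Commute.refl e)) het
    · exact h
    · refine absurd ?_ het
      have h1 : Commute e (t * z) := h ▸ commute_of_mem_zpowers hu (Commute.refl e)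
      have := h1.mul_right (hzc e he)
      rwa [mul_assoc, invol_mul_self hz, mul_one] at this
  refine zstar_false hna T hz hzT fun g hg => ?_
  by_contra hgz
  set w' := g * z * g⁻¹ with hw'def
  have hw'o : orderOf w' = 2 := (orderOf_conj_eq g z).trans hz
  have hw't : ¬ Commute w' t := by
    intro h
    have hb := hbot z hz hCw
    rcases hinv w' hg h hw'o with e | e | e
    · have := hD' g⁻¹
      rw [← e, hw'def, show g⁻¹ * (g * z * g⁻¹) * g⁻¹⁻¹ = z by group] at this
      exact this hb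
    · exact hgz e
    · have := hD' (g⁻¹ * x)
      rw [show g⁻¹ * x * t * (g⁻¹ * x)⁻¹ = g⁻¹ * (x * t * x⁻¹) * g by group, hxtw, ← e, hw'def,
        show g⁻¹ * (g * z * g⁻¹) * g = z by group] at this
      exact this hb
  -- no element of order four in the Sylow subgroup commutes with `w'`
  have hno : ∀ q ∈ (T : Subgroup L), q * q = z → ¬ Commute w' q := by
    intro q hqT hqq hc
    have hq' : Commute (g⁻¹ * q * g) z := by
      rw [← commute_conj_iff (g := g), show g * (g⁻¹ * q * g) * g⁻¹ = q by group, ← hw'def]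
      exact hc.symm
    have hqT' := cent_sylow_eq T hCw hzc hq'
    have h2 : g⁻¹ * q * g * (g⁻¹ * q * g) = g⁻¹ * z * g := by
      rw [← hqq]; group
    have hne1 : g⁻¹ * q * g * (g⁻¹ * q * g) ≠ 1 := by
      rw [h2]; intro e
      exact invol_ne_one hz (conj_eq_one_iff (a := g⁻¹).1 (by rwa [inv_inv]))
    have := hall _ hqT' hne1 (g⁻¹ * z * g) (h2 ▸ mul_mem (mem_zpowers _) (mem_zpowers _))
      (by simpa using (orderOf_conj_eq g⁻¹ z).trans hz)
    refine hgz ?_
    calc w' = g * (g⁻¹ * z * g) * g⁻¹ := by rw [this]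
      _ = z := by group
  rcases hfour r hrr w' hg with e1 | e1
  · exact hno r hrT hrr (mul_inv_eq_iff_eq_mul.1 e1)
  · have e2 := (hat w' hg).resolve_left fun e => hw't (mul_inv_eq_iff_eq_mul.1 e)
    refine hno (t * r) (mul_mem htT hrT) htr (mul_inv_eq_iff_eq_mul.1 ?_)
    calc w' * (t * r) * w'⁻¹ = (w' * t * w'⁻¹) * (w' * r * w'⁻¹) := by group
      _ = t * (z * r) * z := by rw [e1, e2]; group
      _ = t * r * (z * z) := by rw [← hzr.eq]; group
      _ = t * r := by rw [invol_mul_self hz, mul_one]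

end Cfsg.Agent.Lib.NormCyclic64
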