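import Mathlib
import Cfsg.Prelude.Def_CaseTheorems
import Cfsg.Agent.Lib.Cores.Basic
import Cfsg.Agent.Lib.Involutions.Basic

/-!
Groups in which every non-trivial subgroup of a cyclic subgroup of even order has the same
normaliser as the cyclic subgroup: the elementary consequences.
-/

set_option autoImplicit false
set_option linter.style.haveILetI false
set_option linter.unusedSectionVars false

namespace Cfsg.Agent.Lib.NormCyclic64

open Subgroup
open Cfsg.Agent.Lib.Involutions.Basic

universe u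

variable {G : Type u} [Group G]

/-- The hypothesis, element-wise. -/
def Cyc (G : Type u) [Group G] : Prop :=
  ∀ x : G, Even (orderOf x) → ∀ y ∈ zpowers x, y ≠ 1 → ∀ a : G,
    (a * x * a⁻¹ ∈ zpowers x ↔ a * y * a⁻¹ ∈ zpowers y)

variable [Finite G]

theorem mem_norm_zpowers {a x : G} :
    a ∈ normalizer (zpowers x : Set G) ↔ a * x * a⁻¹ ∈ zpowers x := by
  refine ⟨fun h => (mem_normalizer_iff.1 h x).1 (mem_zpowers x), fun h => ?_⟩
  have hmap : (zpowers x).map (MulAut.conj a).toMonoidHom = zpowers x := by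
    refine eq_of_le_of_card_ge ?_ (card_map_of_injective (MulAut.conj a).injective).ge
    rw [MonoidHom.map_zpowers, zpowers_le]
    exact h
  rw [mem_normalizer_iff]
  intro n
  constructor
  · intro hn
    exact hmap.le ⟨n, hn, rfl⟩
  · intro hn
    obtain ⟨m, hm, hme⟩ := hmap.ge hn
    rwa [(MulAut.conj a).injective (show MulAut.conj a m = MulAut.conj a n from hme)] at hm

theorem cyc_of_normalizer
    (h : ∀ X : Subgroup G, IsCyclic ↥X → Even (Nat.card ↥X) → ∀ Y : Subgroup G, Y ≤ X → Y ≠ ⊥ →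
      normalizer (X : Set G) = normalizer (Y : Set G)) : Cyc G := by
  intro x hx y hy hy1 a
  rw [← mem_norm_zpowers, ← mem_norm_zpowers, h (zpowers x) inferInstance
    (by rwa [Nat.card_zpowers]) (zpowers y) (zpowers_le.2 hy) (zpowers_ne_bot.2 hy1)]

theorem mem_zpowers_map_iff {G' : Type*} [Group G'] (f : G →* G') (hf : Function.Injective f)
    {x a : G} : f a ∈ zpowers (f x) ↔ a ∈ zpowers x := by
  rw [← MonoidHom.map_zpowers, mem_map_iff_mem hf]

theorem Cyc.of_injective {G' : Type*} [Group G'] [Finite G'] (h : Cyc G') (f : G →* G')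
    (hf : Function.Injective f) : Cyc G := by
  intro x hx y hy hy1 a
  have := h (f x) (by rwa [orderOf_injective f hf]) (f y) ((mem_zpowers_map_iff f hf).2 hy)
    (fun e => hy1 (hf (e.trans (map_one f).symm))) (f a)
  rw [← map_inv, ← map_mul, ← map_mul, ← map_mul, ← map_mul, mem_zpowers_map_iff f hf,
    mem_zpowers_map_iff f hf] at this
  exact this

theorem Cyc.subgroup (h : Cyc G) (H : Subgroup G) : Cyc H :=
  h.of_injective H.subtype H.subtype_injective

omit [Finite G] in
theorem conj_mem_zpowers_invol {w a : G} (hw : orderOf w = 2) :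
    a * w * a⁻¹ ∈ zpowers w ↔ Commute a w := by
  constructor
  · intro h
    obtain ⟨k, hk⟩ := mem_zpowers_iff.1 h
    rcases Int.even_or_odd' k with ⟨j, rfl | rfl⟩
    · exfalso
      rw [zpow_mul, zpow_two, invol_mul_self hw, one_zpow] at hk
      exact invol_ne_one ((orderOf_conj_eq a w).trans hw) hk.symm
    · rw [zpow_add, zpow_mul, zpow_two, invol_mul_self hw, one_zpow, one_mul, zpow_one] at hk
      exact mul_inv_eq_iff_eq_mul.1 hk.symm
  · intro h
    rw [h.eq, mul_inv_cancel_right]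
    exact mem_zpowers w

/-- An involution in `zpowers x` and `x` have the same normaliser. -/
theorem Cyc.conj_mem_iff (hG : Cyc G) {x w a : G} (hw : orderOf w = 2) (hwx : w ∈ zpowers x) :
    a * x * a⁻¹ ∈ zpowers x ↔ Commute a w := by
  rw [hG x (invol_unique_zpowers hw hwx).1 w hwx (invol_ne_one hw) a, conj_mem_zpowers_invol hw]

/-- For an element of odd order and an involution commuting with it. -/
theorem Cyc.conj_odd_iff (hG : Cyc G) {y t a : G} (ht : orderOf t = 2) (hyt : Commute y t)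
    (hy : Odd (orderOf y)) (hy1 : y ≠ 1) : a * y * a⁻¹ ∈ zpowers y ↔ Commute a t := by
  have hcop : (orderOf y).Coprime (orderOf t) := by rw [ht]; exact Nat.coprime_two_right.2 hy
  have ho := hyt.orderOf_mul_eq_mul_orderOf_of_coprime hcop
  have heven : Even (orderOf (y * t)) := by rw [ho, ht]; exact ⟨orderOf y, by ring⟩
  have h1 : t ∈ zpowers (y * t) := by
    obtain ⟨j, hj⟩ := hy
    refine mem_zpowers_iff.2 ⟨(orderOf y : ℤ), ?_⟩
    rw [zpow_natCast, hyt.mul_pow, pow_orderOf_eq_one, one_mul, hj, pow_add, pow_mul, pow_two,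
      invol_mul_self ht, one_pow, one_mul, pow_one]
  have h2 : y ∈ zpowers (y * t) := by
    have := mul_mem (mem_zpowers (y * t)) (inv_mem h1)
    simpa using this
  rw [← hG _ heven y h2 hy1 a, hG.conj_mem_iff ht h1]

theorem Cyc.cent_le (hG : Cyc G) {y t c : G} (ht : orderOf t = 2) (hyt : Commute y t)
    (hy : Odd (orderOf y)) (hy1 : y ≠ 1) (hc : Commute c y) : Commute c t := by
  rw [← hG.conj_odd_iff ht hyt hy hy1, hc.eq, mul_inv_cancel_right]
  exact mem_zpowers y

theorem Cyc.cent_eq (hG : Cyc G) {y t u : G} (ht : orderOf t = 2) (hu : orderOf u = 2)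
    (hyt : Commute y t) (hyu : Commute y u) (hy : Odd (orderOf y)) (hy1 : y ≠ 1) (c : G) :
    Commute c t ↔ Commute c u := by
  rw [← hG.conj_odd_iff ht hyt hy hy1, hG.conj_odd_iff hu hyu hy hy1]

theorem Cyc.odd_normal (hG : Cyc G) {y t c : G} (ht : orderOf t = 2) (hyt : Commute y t)
    (hy : Odd (orderOf y)) (hc : Commute c t) : c * y * c⁻¹ ∈ zpowers y := by
  rcases eq_or_ne y 1 with rfl | hy1
  · simp
  · exact (hG.conj_odd_iff ht hyt hy hy1).2 hc

omit [Finite G] in
theorem commute_of_mutual {a c : G} (h1 : c * a * c⁻¹ ∈ zpowers a) (h2 : a * c * a⁻¹ ∈ zpowers c)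
    (h : ∀ k, k ∈ zpowers a → k ∈ zpowers c → k = 1) : Commute c a := by
  have := h (c * a * c⁻¹ * a⁻¹) (mul_mem h1 (inv_mem (mem_zpowers a))) (by
    rw [show c * a * c⁻¹ * a⁻¹ = c * (a * c * a⁻¹)⁻¹ by group]
    exact mul_mem (mem_zpowers c) (inv_mem h2))
  exact mul_inv_eq_iff_eq_mul.1 (mul_inv_eq_one.1 this)

omit [Finite G] in
theorem eq_one_of_mem_coprime {a c k : G} (hcop : (orderOf a).Coprime (orderOf c))
    (ha : k ∈ zpowers a) (hc : k ∈ zpowers c) : k = 1 :=
  orderOf_eq_one_iff.1 (Nat.eq_one_of_dvd_coprimes hcop (orderOf_dvd_of_mem_zpowers ha)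
    (orderOf_dvd_of_mem_zpowers hc))

omit [Finite G] in
theorem odd_of_mem_zpowers {y k : G} (hy : Odd (orderOf y)) (hk : k ∈ zpowers y) :
    Odd (orderOf k) :=
  hy.of_dvd_nat (orderOf_dvd_of_mem_zpowers hk)

omit [Finite G] in
theorem coprime_two_pow {y c : G} {k : ℕ} (hy : Odd (orderOf y)) (hc : orderOf c = 2 ^ k) :
    (orderOf y).Coprime (orderOf c) :=
  hc ▸ (Nat.coprime_two_right.2 hy).pow_right k

/-- The subgroup of the elements of odd order centralising an involution. -/
def oddD (t : G) : Subgroup G :=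
  (Cfsg.oddCore (centralizer ({t} : Set G))).map (centralizer ({t} : Set G)).subtype

omit [Finite G] in
theorem mem_cent {t c : G} : c ∈ centralizer ({t} : Set G) ↔ Commute c t :=
  mem_centralizer_singleton_iff

theorem Cyc.mem_oddD (hG : Cyc G) {t y : G} (ht : orderOf t = 2) :
    y ∈ oddD t ↔ Commute y t ∧ Odd (orderOf y) := by
  constructor
  · rintro ⟨⟨z, hz⟩, hzO, rfl⟩
    refine ⟨mem_cent.1 hz, ?_⟩
    have h1 : orderOf (⟨z, hz⟩ : centralizer ({t} : Set G)) ∣
        Nat.card (Cfsg.oddCore (centralizer ({t} : Set G))) :=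
      Subgroup.orderOf_dvd_natCard _ hzO
    rw [Subgroup.orderOf_mk] at h1
    exact Nat.coprime_two_right.1 (Nat.Coprime.coprime_dvd_left h1 (Lib.Cores.pPrimeCore_coprime _))
  · rintro ⟨hc, ho⟩
    set C := centralizer ({t} : Set G)
    let z : C := ⟨y, mem_cent.2 hc⟩
    haveI : (zpowers z).Normal := by
      refine normalizer_eq_top_iff.1 (eq_top_iff.2 fun a _ => mem_norm_zpowers.2 ?_)
      rw [← mem_zpowers_map_iff C.subtype C.subtype_injective]
      exact hG.odd_normal ht hc ho (mem_cent.1 a.2)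
    refine ⟨z, Lib.Cores.le_pPrimeCore ?_ (mem_zpowers z), rfl⟩
    rw [Nat.card_zpowers, Subgroup.orderOf_mk]
    exact Nat.coprime_two_right.2 ho

theorem oddD_conj_mem (hG : Cyc G) {t y g : G} (ht : orderOf t = 2) (hy : y ∈ oddD t) :
    g * y * g⁻¹ ∈ oddD (g * t * g⁻¹) := by
  rw [hG.mem_oddD ((orderOf_conj_eq g t).trans ht), orderOf_conj_eq]
  rw [hG.mem_oddD ht] at hy
  exact ⟨(Commute.map hy.1 (MulAut.conj g).toMonoidHom), hy.2⟩

omit [Finite G] in
theorem eq_one_of_odd_two_pow {y : G} {k : ℕ} (hy : Odd (orderOf y)) (h : orderOf y = 2 ^ k) :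
    y = 1 := by
  rcases k with _ | k
  · exact orderOf_eq_one_iff.1 h
  · exfalso
    rw [h] at hy
    exact Nat.not_even_iff_odd.2 hy (by simp [Nat.even_pow])

/-- A `2`-element powering to `t` centralises the odd part. -/
theorem Cyc.commute_oddD (hG : Cyc G) {t c y : G} {k : ℕ} (ht : orderOf t = 2)
    (htc : t ∈ zpowers c) (hc : orderOf c = 2 ^ k) (hy : y ∈ oddD t) : Commute c y := by
  rw [hG.mem_oddD ht] at hy
  have hct : Commute c t := by
    obtain ⟨j, rfl⟩ := mem_zpowers_iff.1 htc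
    exact (Commute.refl c).zpow_right j
  exact commute_of_mutual (hG.odd_normal ht hy.1 hy.2 hct) ((hG.conj_mem_iff ht htc).2 hy.1)
    fun _ ha hb => eq_one_of_mem_coprime (coprime_two_pow hy.2 hc) ha hb

/-- Elements of coprime order in the odd part commute. -/
theorem Cyc.oddD_coprime_commute (hG : Cyc G) {t a b : G} (ht : orderOf t = 2) (ha : a ∈ oddD t)
    (hb : b ∈ oddD t) (hcop : (orderOf a).Coprime (orderOf b)) : Commute b a := by
  rw [hG.mem_oddD ht] at ha hb
  exact commute_of_mutual (hG.odd_normal ht ha.1 ha.2 hb.1) (hG.odd_normal ht hb.1 hb.2 ha.1)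
    fun _ => eq_one_of_mem_coprime hcop

/-- An involution of the centraliser with another centraliser inverts the odd part. -/
theorem Cyc.inverts_of_cent_ne (hG : Cyc G) {t v y : G} (ht : orderOf t = 2) (hv : orderOf v = 2)
    (hvt : Commute v t) (hne : ¬ ∀ c, Commute c v ↔ Commute c t) (hy : y ∈ oddD t) :
    v * y * v⁻¹ = y⁻¹ := by
  rw [hG.mem_oddD ht] at hy
  obtain ⟨hyt, hyo⟩ := hy
  have hm : v * y * v⁻¹ ∈ zpowers y := hG.odd_normal ht hyt hyo hvt
  set k := y * (v * y * v⁻¹) with hk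
  have hkm : k ∈ zpowers y := mul_mem (mem_zpowers y) hm
  have hkt : Commute k t := by
    obtain ⟨j, hj⟩ := mem_zpowers_iff.1 hkm
    rw [← hj]; exact hyt.zpow_left j
  have hk1 : k = 1 := by
    by_contra h1
    refine hne fun c => (hG.cent_eq ht hv hkt ?_ (odd_of_mem_zpowers hyo hkm) h1 c).symm
    obtain ⟨j, hj⟩ := mem_zpowers_iff.1 hm
    have hc : Commute y (v * y * v⁻¹) := by rw [← hj]; exact (Commute.refl y).zpow_right j
    show k * v = v * k
    rw [hk]
    calc y * (v * y * v⁻¹) * v = v * ((v⁻¹ * y * v) * y) := by group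
      _ = v * ((v * y * v⁻¹) * y) := by rw [invol_inv hv]
      _ = v * (y * (v * y * v⁻¹)) := by rw [hc.eq]
  exact eq_inv_of_mul_eq_one_right hk1

/-- Two elements commuting with an involution outside `2`-element centralisers. -/
theorem isPGroup_cent_of_oddD (hG : Cyc G) {t : G} (ht : orderOf t = 2) (h : oddD t = ⊥) :
    IsPGroup 2 (centralizer ({t} : Set G)) := by
  refine IsPGroup.iff_orderOf.2 fun c => ⟨(orderOf (c : G)).factorization 2, ?_⟩
  rw [← Subgroup.orderOf_coe]
  set m := orderOf (c : G) with hm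
  have hm0 : m ≠ 0 := (orderOf_pos _).ne'
  set y := (c : G) ^ (2 ^ m.factorization 2) with hy
  have ho : orderOf y = m / 2 ^ m.factorization 2 := by
    rw [hy, orderOf_pow_of_dvd (by positivity) (hm ▸ Nat.ordProj_dvd _ _), ← hm]
  have hyD : y ∈ oddD t := (hG.mem_oddD ht).2 ⟨(mem_cent.1 c.2).pow_left _,
    ho ▸ Nat.odd_iff.2 (Nat.two_dvd_ne_zero.1 (Nat.not_dvd_ordCompl Nat.prime_two hm0))⟩
  rw [h, mem_bot] at hyD
  rw [hyD, orderOf_one] at ho
  calc m = 2 ^ m.factorization 2 * (m / 2 ^ m.factorization 2) :=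
        (Nat.ordProj_mul_ordCompl_eq_self m 2).symm
    _ = _ := by rw [← ho, mul_one]

/-- Any non-identity element powers to an involution or to a non-identity element of odd order. -/
theorem exists_power {x : G} (hx : x ≠ 1) :
    ∃ a ∈ zpowers x, a ≠ 1 ∧ (orderOf a = 2 ∨ Odd (orderOf a)) := by
  rcases Nat.even_or_odd (orderOf x) with he | ho
  · exact ⟨_, npow_mem_zpowers x _, invol_ne_one (orderOf_pow_half he),
      Or.inl (orderOf_pow_half he)⟩
  · exact ⟨x, mem_zpowers x, hx, Or.inr ho⟩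

omit [Finite G] in
theorem commute_of_mem_zpowers {x a c : G} (ha : a ∈ zpowers x) (h : Commute c x) : Commute c a := by
  obtain ⟨j, rfl⟩ := mem_zpowers_iff.1 ha
  exact h.zpow_right j

/-- A finite group in which elements of coprime prime power order commute is nilpotent. -/
theorem isNilpotent_of_commute {K : Type u} [Group K] [Finite K]
    (h : ∀ a b : K, ∀ p q i j : ℕ, p.Prime → q.Prime → p ≠ q → orderOf a = p ^ i →
      orderOf b = q ^ j → Commute a b) : Group.IsNilpotent K := by
  refine ((Group.isNilpotent_of_finite_tfae (G := K)).out 0 3).mpr fun p hp P => ?_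
  haveI := hp
  refine normalizer_eq_top_iff.1 (index_eq_one.1 ?_)
  by_contra hne
  obtain ⟨q, hq, hqd⟩ := Nat.exists_prime_and_dvd hne
  haveI := Fact.mk hq
  let Q : Sylow q K := default
  have hle : (Q : Subgroup K) ≤ normalizer ((P : Subgroup K) : Set K) := by
    by_cases hpq : p = q
    · subst hpq
      exfalso
      exact P.not_dvd_index' (index_ne_zero_of_finite) (hqd.trans (index_dvd_of_le le_normalizer))
    · intro b hb
      refine centralizer_le_normalizer _ (mem_centralizer_iff.2 fun a ha => ?_)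
      obtain ⟨i, hi⟩ := IsPGroup.iff_orderOf.1 P.2 ⟨a, ha⟩
      obtain ⟨j, hj⟩ := IsPGroup.iff_orderOf.1 Q.2 ⟨b, hb⟩
      rw [Subgroup.orderOf_mk] at hi hj
      exact h a b p q i j hp.out hq hpq hi hj
  exact Q.not_dvd_index' (index_ne_zero_of_finite) (hqd.trans (index_dvd_of_le hle))

end Cfsg.Agent.Lib.NormCyclic64
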