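import Cfsg.Agent.Lib.NormCyclic64.Basic
import Cfsg.Agent.Lib.Inv59.AutPSLTwo

/-!
Subgroups of `Aut PSL₂(F)` containing the inner automorphisms and with the normaliser condition.
-/

set_option autoImplicit false
set_option linter.style.haveILetI false
set_option linter.unusedSectionVars false

namespace Cfsg.Agent.Lib.NormCyclic64

open Matrix Cfsg.Agent.Lib.AutPSL
open Cfsg.Agent.Lib.Involutions.Basic
open scoped MatrixGroups

/-! ### Field automorphisms -/

section Field

variable {F : Type} [Field F] [Fintype F]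

theorem exists_frob (σ : F ≃+* F) {p f : ℕ} [Fact p.Prime] [CharP F p]
    (hF : Fintype.card F = p ^ f) : ∃ i < f, ∀ x : F, σ x = x ^ p ^ i := by
  letI := ZMod.algebra F p
  let e : F ≃ₐ[ZMod p] F := AlgEquiv.ofRingEquiv (f := σ) fun r =>
    DFunLike.congr_fun (Subsingleton.elim (σ.toRingHom.comp (algebraMap (ZMod p) F))
      (algebraMap (ZMod p) F)) r
  obtain ⟨i, hi⟩ := (FiniteField.bijective_frobeniusAlgEquivOfAlgebraic_pow (ZMod p) F).2 e
  have hfr : Module.finrank (ZMod p) F = f := by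
    have h := Module.card_eq_pow_finrank (K := ZMod p) (V := F)
    rw [hF, ZMod.card] at h
    exact (Nat.pow_right_injective (Fact.out : p.Prime).two_le h).symm
  refine ⟨i, hfr ▸ i.2, fun x => ?_⟩
  have h3 : ∀ (k : ℕ) (u : F), ((FiniteField.frobeniusAlgEquivOfAlgebraic (ZMod p) F) ^ k) u =
      u ^ p ^ k := by
    intro k
    induction k with
    | zero => simp
    | succ k ih =>
      intro u
      rw [pow_succ, AlgEquiv.mul_apply, ih]
      simp [FiniteField.coe_frobeniusAlgEquivOfAlgebraic, ZMod.card, ← pow_mul, pow_succ']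
  have h2 := DFunLike.congr_fun hi x
  rw [h3] at h2
  exact h2.symm

theorem eq_zero_of_fixed {p f j : ℕ} (hp : p.Prime) (hF : Fintype.card F = p ^ f) (hj : j < f)
    (h : ∀ x : F, x ^ p ^ j = x) : j = 0 := by
  by_contra hj0
  have h1 : 1 < p ^ j := Nat.one_lt_pow hj0 hp.one_lt
  have hle : Fintype.card F ≤ (Polynomial.X ^ (p ^ j) - Polynomial.X : Polynomial F).natDegree := by
    rw [← Finset.card_univ]
    refine Polynomial.card_le_degree_of_subset_roots fun x _ => ?_
    rw [Polynomial.mem_roots (FiniteField.X_pow_card_sub_X_ne_zero F h1)]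
    simp [h x]
  rw [FiniteField.X_pow_card_sub_X_natDegree_eq F h1, hF] at hle
  exact absurd hle (not_le.2 (Nat.pow_lt_pow_right hp.one_lt hj))

/-- The norm of an involutory automorphism is not trivial. -/
theorem exists_norm_ne_one (hq : 4 < Fintype.card F) (σ : F ≃+* F) :
    ∃ x : F, x ≠ 0 ∧ x * σ x ≠ 1 := by
  classical
  by_contra h
  push Not at h
  have key : ∀ x : F, x ≠ 0 → x + 1 ≠ 0 → x ^ 2 + x + 1 = 0 := by
    intro x h0 h1
    have e1 := h x h0
    have e2 := h (x + 1) h1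
    rw [map_add, map_one] at e2
    linear_combination (-(x + 1)) * e1 + x * e2
  let P : Polynomial F := Polynomial.X ^ 2 + Polynomial.X + 1
  have hP : P.natDegree = 2 := by simp only [P]; compute_degree!
  have hP0 : P ≠ 0 := fun e => by rw [e, Polynomial.natDegree_zero] at hP; omega
  have hsub : (Finset.univ : Finset F) ⊆ {0, -1} ∪ P.roots.toFinset := by
    intro x _
    by_cases h0 : x = 0
    · simp [h0]
    by_cases h1 : x + 1 = 0
    · simp [eq_neg_of_add_eq_zero_left h1]
    refine Finset.mem_union_right _ (Multiset.mem_toFinset.2 ((Polynomial.mem_roots hP0).2 ?_))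
    simp [P, key x h0 h1]
  have h4 := (Finset.card_le_card hsub).trans (Finset.card_union_le _ _)
  rw [Finset.card_univ] at h4
  have h5 : ({0, -1} : Finset F).card ≤ 2 := Finset.card_le_two
  have h6 := (Multiset.toFinset_card_le P.roots).trans (P.card_roots')
  omega

end Field

/-! ### The matrices -/

section Mat

variable {F : Type} [Field F]

/-- `!![0, 1; -1, 0]`. -/
noncomputable def matJ : GL (Fin 2) F :=
  GeneralLinearGroup.mkOfDetNeZero !![0, 1; -1, 0] (by simp [Matrix.det_fin_two_of])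

/-- `!![1, 1; 0, 1]`. -/
noncomputable def matT : GL (Fin 2) F :=
  GeneralLinearGroup.mkOfDetNeZero !![1, 1; 0, 1] (by simp [Matrix.det_fin_two_of])

/-- `!![l, 0; 0, 1]`. -/
noncomputable def dg : Fˣ →* GL (Fin 2) F where
  toFun l := GeneralLinearGroup.mkOfDetNeZero !![(l : F), 0; 0, 1]
    (by simp [Matrix.det_fin_two_of])
  map_one' := Units.ext (by
    show !![((1 : Fˣ) : F), 0; 0, 1] = 1
    rw [Units.val_one]; exact Matrix.one_fin_two.symm)
  map_mul' a b := Units.ext (by
    show !![((a * b : Fˣ) : F), 0; 0, 1] = !![(a : F), 0; 0, 1] * !![(b : F), 0; 0, 1]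
    simp [Matrix.mul_fin_two])

theorem val_dg (l : Fˣ) : (dg l : Matrix (Fin 2) (Fin 2) F) = !![(l : F), 0; 0, 1] := rfl
theorem val_matJ : ((matJ : GL (Fin 2) F) : Matrix (Fin 2) (Fin 2) F) = !![0, 1; -1, 0] := rfl
theorem val_matT : ((matT : GL (Fin 2) F) : Matrix (Fin 2) (Fin 2) F) = !![1, 1; 0, 1] := rfl

theorem det_dg (l : Fˣ) : (GeneralLinearGroup.det (dg l) : F) = l := by
  rw [GeneralLinearGroup.val_det_apply, val_dg, Matrix.det_fin_two_of]; ring

theorem det_matJ : (GeneralLinearGroup.det (matJ : GL (Fin 2) F) : F) = 1 := by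
  rw [GeneralLinearGroup.val_det_apply, val_matJ, Matrix.det_fin_two_of]; ring

theorem det_matT : (GeneralLinearGroup.det (matT : GL (Fin 2) F) : F) = 1 := by
  rw [GeneralLinearGroup.val_det_apply, val_matT, Matrix.det_fin_two_of]; ring

theorem mapGL_dg (σ : F ≃+* F) (l : Fˣ) : mapGL σ (dg l) = dg (mapUnits σ l) :=
  Units.ext (Matrix.ext fun i j => by
    show σ ((dg l : Matrix (Fin 2) (Fin 2) F) i j) = _
    rw [val_dg, val_dg]
    fin_cases i <;> fin_cases j <;> simp [mapUnits])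

theorem mapGL_matJ (σ : F ≃+* F) : mapGL σ (matJ : GL (Fin 2) F) = matJ :=
  Units.ext (Matrix.ext fun i j => by
    show σ ((matJ : GL (Fin 2) F).1 i j) = _
    rw [val_matJ]
    fin_cases i <;> fin_cases j <;> simp)

theorem mapGL_matT (σ : F ≃+* F) : mapGL σ (matT : GL (Fin 2) F) = matT :=
  Units.ext (Matrix.ext fun i j => by
    show σ ((matT : GL (Fin 2) F).1 i j) = _
    rw [val_matT]
    fin_cases i <;> fin_cases j <;> simp)

theorem val_scalar_mul (c : Fˣ) (g : GL (Fin 2) F) :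
    ((GeneralLinearGroup.scalar (Fin 2) c * g : GL (Fin 2) F) : Matrix (Fin 2) (Fin 2) F) =
      (c : F) • (g : Matrix (Fin 2) (Fin 2) F) := by
  rw [Units.val_mul, GeneralLinearGroup.coe_scalar]
  ext i j
  simp [Matrix.scalar_apply, Matrix.diagonal_mul]

theorem matT_pow (n : ℕ) :
    ((matT : GL (Fin 2) F) ^ n : GL (Fin 2) F).1 = !![1, (n : F); 0, 1] := by
  induction n with
  | zero => simp [Matrix.one_fin_two]
  | succ k ih =>
    rw [pow_succ, Units.val_mul, ih, val_matT, Matrix.mul_fin_two]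
    ext i j
    fin_cases i <;> fin_cases j <;> simp [add_comm]

end Mat

/-! ### The subgroup -/

section Outer

variable {F : Type} [Field F] [Fintype F]

local notation "P₂" => Matrix.ProjectiveSpecialLinearGroup (Fin 2) F

theorem conjAut_dg_inj {a b : Fˣ} (h : (conjAut (dg a) : MulAut P₂) = conjAut (dg b)) : a = b := by
  obtain ⟨c, hc⟩ := (conjAut_eq_iff le_rfl).1 h
  have h1 : (dg b : Matrix (Fin 2) (Fin 2) F) = (c : F) • (dg a : Matrix (Fin 2) (Fin 2) F) := by
    rw [hc, val_scalar_mul]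
  rw [val_dg, val_dg] at h1
  have e1 := congrFun (congrFun h1 1) 1
  have e0 := congrFun (congrFun h1 0) 0
  simp at e1 e0
  rw [← e1, one_mul] at e0
  exact (Units.ext e0).symm

theorem conjAut_matJ_dg (l : Fˣ) :
    (conjAut matJ : MulAut P₂) * conjAut (dg l) = conjAut (dg l⁻¹) * conjAut matJ := by
  rw [← map_mul, ← map_mul, conjAut_eq_iff le_rfl]
  refine ⟨l⁻¹, Units.ext ?_⟩
  rw [val_scalar_mul, Units.val_mul, Units.val_mul, val_dg, val_dg, val_matJ]
  ext i j
  fin_cases i <;> fin_cases j <;> simp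

theorem fieldAut_injective_two {σ τ : F ≃+* F} (h : (fieldAut σ : MulAut P₂) = fieldAut τ) :
    σ = τ :=
  (conjAut_mul_fieldAut_injective le_rfl (g := 1) (g' := 1) (σ := σ) (σ' := τ)
    (by rw [map_one, one_mul, one_mul, h])).2

theorem fieldAut_commute (σ : F ≃+* F) (g : GL (Fin 2) F) (h : mapGL σ g = g) :
    Commute (conjAut g : MulAut P₂) (fieldAut σ) :=
  (show (fieldAut σ : MulAut P₂) * conjAut g = conjAut g * fieldAut σ by
    rw [fieldAut_conjAut, h]).symm

theorem inner_of_det_sq (Γ : Subgroup (MulAut P₂)) (hI : ∀ x : P₂, MulAut.conj x ∈ Γ) (k : GL (Fin 2) F)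
    (h : IsSquare (GeneralLinearGroup.det k : F)) : (conjAut k : MulAut P₂) ∈ Γ := by
  obtain ⟨s, hs⟩ := h
  have hs0 : s ≠ 0 := fun e => by
    rw [e, mul_zero] at hs
    exact (GeneralLinearGroup.det k).ne_zero hs
  have hd : (s⁻¹ • (k : Matrix (Fin 2) (Fin 2) F)).det = 1 := by
    rw [Matrix.det_smul, Fintype.card_fin, ← GeneralLinearGroup.val_det_apply, hs]
    field_simp
  let sl : Matrix.SpecialLinearGroup (Fin 2) F := ⟨_, hd⟩
  have e : (conjAut k : MulAut P₂) = conjAut (Matrix.SpecialLinearGroup.toGL sl) := by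
    refine ((conjAut_eq_iff le_rfl).2 ⟨Units.mk0 s hs0, Units.ext ?_⟩).symm
    rw [val_scalar_mul]
    show _ = s • (s⁻¹ • (k : Matrix (Fin 2) (Fin 2) F))
    rw [smul_smul, mul_inv_cancel₀ hs0, one_smul]
  rw [e, conjAut_toGL]
  exact hI _

variable {Γ : Subgroup (MulAut (Matrix.ProjectiveSpecialLinearGroup (Fin 2) F))}
variable (hI : ∀ x : Matrix.ProjectiveSpecialLinearGroup (Fin 2) F, MulAut.conj x ∈ Γ) (hC : Cyc ↥Γ)

include hC in
theorem cent_le_mem {y t c : MulAut P₂} (hy : y ∈ Γ) (ht : t ∈ Γ) (hc : c ∈ Γ)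
    (hto : orderOf t = 2) (hyt : Commute y t) (hyo : Odd (orderOf y)) (hy1 : y ≠ 1)
    (hcy : Commute c y) : Commute c t :=
  congrArg Subtype.val (hC.cent_le (G := ↥Γ) (y := ⟨y, hy⟩) (t := ⟨t, ht⟩) (c := ⟨c, hc⟩)
    (by rwa [Subgroup.orderOf_mk]) (Subtype.ext hyt) (by rwa [Subgroup.orderOf_mk])
    (fun e => hy1 (congrArg Subtype.val e)) (Subtype.ext hcy)).eq

include hC in
theorem odd_normal_mem {y t c : MulAut P₂} (hy : y ∈ Γ) (ht : t ∈ Γ) (hc : c ∈ Γ)
    (hto : orderOf t = 2) (hyt : Commute y t) (hyo : Odd (orderOf y)) (hct : Commute c t) :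
    c * y * c⁻¹ ∈ Subgroup.zpowers y :=
  (mem_zpowers_map_iff Γ.subtype Γ.subtype_injective).2 (hC.odd_normal (G := ↥Γ) (y := ⟨y, hy⟩)
    (t := ⟨t, ht⟩) (c := ⟨c, hc⟩) (by rwa [Subgroup.orderOf_mk]) (Subtype.ext hyt)
    (by rwa [Subgroup.orderOf_mk]) (Subtype.ext hct))

include hC in
theorem conj_mem_of_invol {x w c : MulAut P₂} (hx : x ∈ Γ) (hc : c ∈ Γ) (hwo : orderOf w = 2)
    (hwx : w ∈ Subgroup.zpowers x) (hcw : Commute c w) : c * x * c⁻¹ ∈ Subgroup.zpowers x :=
  (mem_zpowers_map_iff Γ.subtype Γ.subtype_injective).2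
    ((hC.conj_mem_iff (G := ↥Γ) (x := ⟨x, hx⟩) (a := ⟨c, hc⟩)
      (w := ⟨w, (Subgroup.zpowers_le.2 hx) hwx⟩) (by rwa [Subgroup.orderOf_mk])
      ((mem_zpowers_map_iff Γ.subtype Γ.subtype_injective).1 hwx)).2 (Subtype.ext hcw))

theorem matJ_mem (hI : ∀ x : P₂, MulAut.conj x ∈ Γ) : (conjAut matJ : MulAut P₂) ∈ Γ :=
  inner_of_det_sq Γ hI _ ⟨1, by rw [det_matJ, one_mul]⟩

theorem matT_mem (hI : ∀ x : P₂, MulAut.conj x ∈ Γ) : (conjAut matT : MulAut P₂) ∈ Γ :=
  inner_of_det_sq Γ hI _ ⟨1, by rw [det_matT, one_mul]⟩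

theorem orderOf_matJ : orderOf (conjAut matJ : MulAut P₂) = 2 := by
  refine invol_iff.2 ⟨?_, fun e => ?_⟩
  · rw [← map_mul]
    refine Inv59.AutPSLTwo.conjAut_eq_one_of_scalar (c := -1) ?_
    rw [Units.val_mul, val_matJ, Matrix.mul_fin_two]
    ext i j
    fin_cases i <;> fin_cases j <;> simp
  · obtain ⟨c, hc⟩ := exists_scalar_of_conjAut_eq_one le_rfl e
    have := congrArg (fun u : GL (Fin 2) F => (u : Matrix (Fin 2) (Fin 2) F) 0 1) hc
    simp [val_matJ, GeneralLinearGroup.coe_scalar, Matrix.scalar_apply] at this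

include hI hC in
/-- No field automorphism is in the group. -/
theorem no_fieldAut (hq : 4 < Fintype.card F) {σ : F ≃+* F} (hσ : σ ≠ 1)
    (hmem : (fieldAut σ : MulAut P₂) ∈ Γ) : False := by
  classical
  have hfin : 0 < orderOf (fieldAut σ : MulAut P₂) := orderOf_pos _
  -- reduce to prime order
  obtain ⟨r, hr, τ, hτmem, hτo⟩ : ∃ r : ℕ, r.Prime ∧ ∃ τ : F ≃+* F,
      (fieldAut τ : MulAut P₂) ∈ Γ ∧ orderOf (fieldAut τ : MulAut P₂) = r := by
    have hne : orderOf (fieldAut σ : MulAut P₂) ≠ 1 := fun e => hσ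
      (fieldAut_injective_two (by rw [orderOf_eq_one_iff.1 e, map_one]))
    obtain ⟨r, hr, hrd⟩ := Nat.exists_prime_and_dvd hne
    refine ⟨r, hr, σ ^ (orderOf (fieldAut σ : MulAut P₂) / r), by rw [map_pow]; exact pow_mem hmem _,
      ?_⟩
    rw [map_pow]
    exact orderOf_pow_orderOf_div hfin.ne' hrd
  by_cases hr2 : r = 2
  · subst hr2
    obtain ⟨p, hp⟩ := CharP.exists F
    haveI := hp
    haveI : Fact p.Prime := ⟨CharP.char_is_prime F p⟩
    by_cases hp2 : p = 2
    · subst hp2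
      obtain ⟨x, hx0, hx1⟩ := exists_norm_ne_one hq τ
      set lam : Fˣ := Units.mk0 (x * τ x) (mul_ne_zero hx0 ((map_ne_zero τ).2 hx0)) with hlam
      have hττ : τ * τ = 1 := fieldAut_injective_two (by
        rw [map_mul, map_one]; exact invol_mul_self hτo)
      have hfix : mapGL τ (dg lam) = dg lam := by
        rw [mapGL_dg]
        congr 1
        refine Units.ext ?_
        show τ (x * τ x) = x * τ x
        rw [map_mul, show τ (τ x) = x from DFunLike.congr_fun hττ x, mul_comm]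
      set y := (conjAut (dg lam) : MulAut P₂) with hy
      have hev : Even (Fintype.card F) := by
        obtain ⟨n, -, hn⟩ := FiniteField.card F 2
        rw [hn]; exact even_two.pow_of_ne_zero n.pos.ne'
      have hyo : Odd (orderOf y) := by
        refine Odd.of_dvd_nat (n := Fintype.card F - 1) ?_ (orderOf_dvd_of_pow_eq_one ?_)
        · obtain ⟨j, hj⟩ := hev; exact ⟨j - 1, by omega⟩
        · rw [hy, ← map_pow, ← map_pow,
            show lam ^ (Fintype.card F - 1) = 1 from Units.ext (by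
              rw [Units.val_pow_eq_pow_val, Units.val_one]
              exact FiniteField.pow_card_sub_one_eq_one _ lam.ne_zero), map_one, map_one]
      have hymem : y ∈ Γ :=
        inner_of_det_sq Γ hI _ (FiniteField.isSquare_of_char_two (ringChar.eq F 2) _)
      have := odd_normal_mem hC hymem hτmem (matT_mem hI) hτo (fieldAut_commute τ _ hfix) hyo
        (fieldAut_commute τ _ (mapGL_matT τ))
      obtain ⟨k, hk⟩ := Subgroup.mem_zpowers_iff.1 this
      replace hk : (conjAut (dg lam) : MulAut P₂) ^ k * conjAut matT =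
          conjAut matT * conjAut (dg lam) := eq_mul_inv_iff_mul_eq.1 hk
      rw [← map_zpow, ← map_zpow, ← map_mul, ← map_mul, conjAut_eq_iff le_rfl] at hk
      obtain ⟨c, hc⟩ := hk
      have h1 : ((matT * dg lam : GL (Fin 2) F) : Matrix (Fin 2) (Fin 2) F) =
          (c : F) • ((dg (lam ^ k) * matT : GL (Fin 2) F) : Matrix (Fin 2) (Fin 2) F) := by
        rw [hc, val_scalar_mul]
      rw [Units.val_mul, Units.val_mul, val_dg, val_dg, val_matT, Matrix.mul_fin_two,
        Matrix.mul_fin_two] at h1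
      have e11 := congrFun (congrFun h1 1) 1
      have e01 := congrFun (congrFun h1 0) 1
      have e00 := congrFun (congrFun h1 0) 0
      simp at e11 e01 e00
      rw [← e11, one_mul] at e01 e00
      refine hx1 ?_
      calc x * τ x = (lam : F) := rfl
        _ = 1 := by rw [e00, ← e01]
    · have hodd : Odd p := (Fact.out : p.Prime).odd_of_ne_two hp2
      set y := (conjAut matT : MulAut P₂) with hy
      have hyo : Odd (orderOf y) := by
        refine hodd.of_dvd_nat (orderOf_dvd_of_pow_eq_one ?_)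
        rw [hy, ← map_pow, show (matT : GL (Fin 2) F) ^ p = 1 from Units.ext (by
          rw [matT_pow, CharP.cast_eq_zero, Units.val_one]; exact Matrix.one_fin_two.symm), map_one]
      have := odd_normal_mem hC (matT_mem hI) hτmem (matJ_mem hI) hτo
        (fieldAut_commute τ _ (mapGL_matT τ)) hyo (fieldAut_commute τ _ (mapGL_matJ τ))
      obtain ⟨k, hk⟩ := mem_powers_iff_mem_zpowers.2 this
      replace hk : (conjAut matT : MulAut P₂) ^ k * conjAut matJ = conjAut matJ * conjAut matT :=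
        eq_mul_inv_iff_mul_eq.1 hk
      rw [← map_pow, ← map_mul, ← map_mul, conjAut_eq_iff le_rfl] at hk
      obtain ⟨c, hc⟩ := hk
      have h1 : ((matJ * matT : GL (Fin 2) F) : Matrix (Fin 2) (Fin 2) F) =
          (c : F) • ((matT ^ k * matJ : GL (Fin 2) F) : Matrix (Fin 2) (Fin 2) F) := by
        rw [hc, val_scalar_mul]
      rw [Units.val_mul, Units.val_mul, matT_pow, val_matJ, val_matT, Matrix.mul_fin_two,
        Matrix.mul_fin_two] at h1
      have e11 := congrFun (congrFun h1 1) 1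
      simp at e11
  · have hodd : Odd r := hr.odd_of_ne_two hr2
    have hy1 : (fieldAut τ : MulAut P₂) ≠ 1 := fun e => by
      rw [e, orderOf_one] at hτo; exact hr.ne_one hτo.symm
    have h := cent_le_mem hC hτmem (matJ_mem hI) (matT_mem hI) orderOf_matJ
      (fieldAut_commute τ _ (mapGL_matJ τ)).symm (hτo.symm ▸ hodd) hy1
      (fieldAut_commute τ _ (mapGL_matT τ))
    have h' := h.eq
    rw [← map_mul, ← map_mul, conjAut_eq_iff le_rfl] at h'
    obtain ⟨c, hc⟩ := h'
    have h1 : ((matJ * matT : GL (Fin 2) F) : Matrix (Fin 2) (Fin 2) F) =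
        (c : F) • ((matT * matJ : GL (Fin 2) F) : Matrix (Fin 2) (Fin 2) F) := by
      rw [hc, val_scalar_mul]
    rw [Units.val_mul, Units.val_mul, val_matJ, val_matT, Matrix.mul_fin_two,
      Matrix.mul_fin_two] at h1
    have e00 := congrFun (congrFun h1 0) 0
    simp at e00

include hI hC in
/-- The group lies in the group of inner diagonal automorphisms. -/
theorem mem_range (hq : 4 < Fintype.card F) {α : MulAut P₂} (hα : α ∈ Γ) :
    α ∈ (conjAut : GL (Fin 2) F →* MulAut P₂).range := by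
  classical
  obtain ⟨g, σ, γ, hγ, rfl⟩ := exists_decomp le_rfl α
  rcases hγ with rfl | ⟨h3, -⟩
  swap
  · omega
  rw [mul_one] at hα ⊢
  by_cases hσ : σ = 1
  · exact ⟨g, by rw [hσ, map_one, mul_one]⟩
  exfalso
  obtain ⟨p, hp⟩ := CharP.exists F
  haveI := hp
  haveI hpp : Fact p.Prime := ⟨CharP.char_is_prime F p⟩
  obtain ⟨f, -, hf⟩ := FiniteField.card F p
  obtain ⟨i, hif, hi⟩ := exists_frob σ hf
  -- the determinant is not a square
  have hdet : ¬ IsSquare (GeneralLinearGroup.det g : F) := by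
    intro hsq
    refine no_fieldAut hI hC hq hσ ?_
    have := mul_mem (inv_mem (inner_of_det_sq Γ hI g hsq)) hα
    rwa [inv_mul_cancel_left] at this
  have hp2 : p ≠ 2 := by
    rintro rfl
    exact hdet (FiniteField.isSquare_of_char_two (ringChar.eq F 2) _)
  have hpodd : Odd p := hpp.out.odd_of_ne_two hp2
  -- `σ` is an involution
  have hσσ : σ * σ = 1 := by
    by_contra hne
    refine no_fieldAut hI hC hq hne ?_
    have h2 : (conjAut g * fieldAut σ : MulAut P₂) * (conjAut g * fieldAut σ) =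
        conjAut (g * mapGL σ g) * fieldAut (σ * σ) := by
      rw [map_mul, map_mul, mul_assoc, ← mul_assoc (fieldAut σ : MulAut P₂), fieldAut_conjAut,
        mul_assoc, mul_assoc]
    have hsq : IsSquare (GeneralLinearGroup.det (g * mapGL σ g) : F) := by
      obtain ⟨j, hj⟩ := (hpodd.pow : Odd (p ^ i))
      rw [map_mul, Units.val_mul, det_mapGL]
      show IsSquare ((GeneralLinearGroup.det g : F) * σ (GeneralLinearGroup.det g : F))
      rw [hi, hj, ← pow_succ']
      exact ⟨(GeneralLinearGroup.det g : F) ^ (j + 1), by rw [← pow_add]; congr 1; ring⟩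
    have h3 := mul_mem hα hα
    rw [h2] at h3
    have := mul_mem (inv_mem (inner_of_det_sq Γ hI _ hsq)) h3
    rwa [inv_mul_cancel_left] at this
  set r0 := p ^ i with hr0
  have hr0odd : Odd r0 := hpodd.pow
  have hi0 : i ≠ 0 := by
    rintro rfl
    exact hσ (RingEquiv.ext fun x => by rw [hi]; simp [hr0])
  have hr01 : 1 < r0 := Nat.one_lt_pow hi0 hpp.out.one_lt
  have hfi : (f : ℕ) = 2 * i := by
    have h2 : ∀ x : F, x ^ p ^ (2 * i) = x := fun x => by
      have : σ (σ x) = x := DFunLike.congr_fun hσσ x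
      rw [hi, hi, ← pow_mul, ← pow_add, ← two_mul] at this
      exact this
    rcases Nat.lt_or_ge (2 * i) f with h | h
    · exact absurd (eq_zero_of_fixed hpp.out hf h h2) (by omega)
    · have h3 : ∀ x : F, x ^ p ^ (2 * i - f) = x := fun x => by
        have h4 := h2 x
        rwa [show 2 * i = (f : ℕ) + (2 * i - f) by omega, pow_add, pow_mul, ← hf,
          FiniteField.pow_card] at h4
      have := eq_zero_of_fixed hpp.out hf (by omega) h3
      omega
  have hq' : Fintype.card F = r0 * r0 := by rw [hf, hfi, hr0, ← pow_add, two_mul]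
  -- a generator and the Sylow part
  obtain ⟨lam, hlam⟩ := IsCyclic.exists_generator (α := Fˣ)
  have holam : orderOf lam = Fintype.card F - 1 := by
    rw [orderOf_eq_card_of_forall_mem_zpowers hlam, Nat.card_eq_fintype_card, Fintype.card_units]
  obtain ⟨a, m, hm, hqa⟩ := Nat.exists_eq_pow_mul_and_not_dvd
    (show Fintype.card F - 1 ≠ 0 by omega) 2 (by norm_num)
  have hmodd : Odd m := Nat.odd_iff.2 (by omega)
  have ha2 : 2 ≤ a := by
    obtain ⟨b, hb⟩ := hr0odd
    by_contra hlt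
    have h4 : 4 ∣ Fintype.card F - 1 := ⟨b * b + b, by
      rw [hq', hb, show (2 * b + 1) * (2 * b + 1) = 4 * (b * b + b) + 1 by ring]; omega⟩
    rw [hqa] at h4
    obtain ⟨c, hc⟩ := h4
    obtain ⟨d, hd⟩ := hmodd
    rcases (show a = 0 ∨ a = 1 by omega) with rfl | rfl <;> omega
  set ω := lam ^ m with hω
  have howk : ∀ k : ℕ, ω ^ k = 1 ↔ 2 ^ a ∣ k := fun k => by
    rw [hω, ← pow_mul, ← orderOf_dvd_iff_pow_eq_one, holam, hqa, mul_comm m k]
    exact Nat.mul_dvd_mul_iff_right hmodd.pos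
  have hmapu : ∀ u : Fˣ, mapUnits σ u = u ^ r0 := fun u => Units.ext (by
    show σ (u : F) = _
    rw [hi, Units.val_pow_eq_pow_val])
  -- the element `G0`
  have hdsq : IsSquare (GeneralLinearGroup.det (dg ω * g⁻¹) : F) := by
    obtain ⟨k, hk⟩ := Subgroup.mem_zpowers_iff.1 (hlam (GeneralLinearGroup.det g))
    have hkodd : Odd k := by
      by_contra hke
      obtain ⟨j, hj⟩ := Int.not_odd_iff_even.1 hke
      refine hdet ⟨((lam ^ j : Fˣ) : F), ?_⟩
      rw [← hk, hj, _root_.zpow_add, Units.val_mul]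
    obtain ⟨j, hj⟩ : Even ((m : ℤ) - k) :=
      (show Odd (m : ℤ) by exact_mod_cast hmodd).sub_odd hkodd
    refine ⟨((lam ^ j : Fˣ) : F), ?_⟩
    rw [map_mul, map_inv, ← hk, Units.val_mul (GeneralLinearGroup.det (dg ω)), det_dg, hω,
      ← Units.val_mul, ← Units.val_mul, ← zpow_natCast, ← _root_.zpow_sub, ← _root_.zpow_add, hj]
  set G0 := (conjAut (dg ω) * fieldAut σ : MulAut P₂) with hG0
  have hG0mem : G0 ∈ Γ := by
    have h : G0 = conjAut (dg ω * g⁻¹) * (conjAut g * fieldAut σ) := by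
      rw [hG0, map_mul, map_inv]; group
    rw [h]
    exact mul_mem (inner_of_det_sq Γ hI _ hdsq) hα
  set n := ω ^ (1 + r0) with hn
  have hG02 : G0 * G0 = conjAut (dg n) := by
    rw [hG0, mul_assoc, ← mul_assoc (fieldAut σ : MulAut P₂), fieldAut_conjAut, mapGL_dg, hmapu,
      mul_assoc, ← map_mul, hσσ, map_one, mul_one, ← map_mul, ← map_mul, hn, pow_add, pow_one]
  have hG0pow : ∀ k : ℕ, G0 ^ (2 * k) = conjAut (dg (n ^ k)) := fun k => by
    rw [pow_mul, pow_two, hG02, ← map_pow, ← map_pow]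
  -- `n` is not trivial
  have hqm : (r0 - 1) * (r0 + 1) = 2 ^ a * m := by
    rw [← hqa, hq']
    obtain ⟨b, hb'⟩ : ∃ b, r0 = b + 1 := ⟨r0 - 1, by omega⟩
    rw [hb', show b + 1 - 1 = b by omega, show (b + 1) * (b + 1) = b * (b + 1 + 1) + 1 by ring]
    omega
  have hn1 : n ≠ 1 := by
    intro e
    obtain ⟨c, hc⟩ := (howk _).1 e
    have h1 : (r0 - 1) * c = m := by
      refine Nat.eq_of_mul_eq_mul_left (show 0 < 2 ^ a by positivity) ?_
      rw [← hqm, show r0 + 1 = 1 + r0 by ring, hc]; ring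
    obtain ⟨b, hb⟩ := hr0odd
    rw [← h1, hb, show 2 * b + 1 - 1 = 2 * b by omega] at hmodd
    exact Nat.not_even_iff_odd.2 hmodd ⟨b * c, by ring⟩
  -- the involution
  obtain ⟨b, hb⟩ : ∃ b : ℕ, orderOf n = 2 ^ (b + 1) := by
    have h1 : orderOf n ∣ 2 ^ a := orderOf_dvd_of_pow_eq_one (by
      rw [hn, ← pow_mul, howk]; exact Dvd.intro_left _ rfl)
    obtain ⟨b, -, hb⟩ := (Nat.dvd_prime_pow Nat.prime_two).1 h1
    rcases b with _ | b
    · exact absurd (orderOf_eq_one_iff.1 hb) hn1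
    · exact ⟨b, hb⟩
  have hneg : n ^ 2 ^ b = -1 := by
    have h1 : n ^ 2 ^ b * n ^ 2 ^ b = 1 := by
      rw [← pow_add, ← two_mul, ← pow_succ', ← hb, pow_orderOf_eq_one]
    have h2 : n ^ 2 ^ b ≠ 1 := fun e => by
      have := Nat.le_of_dvd (by positivity) (orderOf_dvd_of_pow_eq_one e)
      rw [hb, pow_succ] at this
      have : 0 < 2 ^ b := by positivity
      omega
    refine Units.ext ?_
    have h3 := congrArg Units.val h1
    rw [Units.val_mul, Units.val_one, mul_self_eq_one_iff] at h3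
    rw [Units.val_neg, Units.val_one]
    exact h3.resolve_left fun e => h2 (Units.ext (by rw [e, Units.val_one]))
  set w := (conjAut (dg (-1)) : MulAut P₂) with hw
  have hwmem : w ∈ Subgroup.zpowers G0 := by
    rw [hw, ← hneg, ← hG0pow]
    exact Subgroup.npow_mem_zpowers _ _
  have h2F : (2 : F) ≠ 0 := by
    intro e
    refine hp2 ((Nat.prime_dvd_prime_iff_eq hpp.out Nat.prime_two).1
      ((CharP.cast_eq_zero_iff F p 2).1 (by exact_mod_cast e)))
  have hwo : orderOf w = 2 := by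
    refine invol_iff.2 ⟨?_, fun e => ?_⟩
    · rw [hw, ← map_mul, ← map_mul]; simp
    · have h1 : (-1 : Fˣ) = 1 := conjAut_dg_inj (F := F) (by rw [← hw, e, map_one, map_one])
      have h3 := congrArg Units.val h1
      rw [Units.val_neg, Units.val_one] at h3
      exact h2F (by linear_combination -h3)
  -- conjugating `G0`
  have key : ∀ X : GL (Fin 2) F, (conjAut X * fieldAut σ : MulAut P₂) ∈ Subgroup.zpowers G0 →
      ∃ k : ℕ, (conjAut X : MulAut P₂) = conjAut (dg (n ^ k * ω)) := by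
    intro X hX
    obtain ⟨j, hj⟩ := mem_powers_iff_mem_zpowers.2 hX
    replace hj : G0 ^ j = conjAut X * fieldAut σ := hj
    rcases Nat.even_or_odd' j with ⟨k, rfl | rfl⟩
    · exfalso
      rw [hG0pow] at hj
      refine hσ (conjAut_mul_fieldAut_injective le_rfl (g := dg (n ^ k)) (g' := X) (σ := 1)
        (σ' := σ) ?_).2.symm
      rw [← hj, map_one, mul_one]
    · refine ⟨k, mul_right_cancel (b := (fieldAut σ : MulAut P₂)) ?_⟩
      rw [← hj, pow_succ, hG0pow, hG0, map_mul, map_mul, mul_assoc]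
  -- `J`
  obtain ⟨k, hk⟩ := key (dg ω⁻¹) (by
    have hcw : Commute (conjAut matJ : MulAut P₂) w := by
      show _ * _ = _ * _
      rw [hw, conjAut_matJ_dg, show ((-1 : Fˣ)⁻¹) = -1 by simp]
    have h := conj_mem_of_invol hC hG0mem (matJ_mem hI) hwo hwmem hcw
    rwa [hG0, ← mul_assoc, conjAut_matJ_dg, mul_assoc, mul_assoc,
      ← mul_assoc (conjAut matJ : MulAut P₂), (fieldAut_commute σ _ (mapGL_matJ σ)).eq,
      mul_inv_cancel_right] at h)
  have hJ : 2 ^ a ∣ 2 + k * (1 + r0) := by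
    refine (howk _).1 ?_
    have h1 := conjAut_dg_inj hk
    rw [hn] at h1
    calc ω ^ (2 + k * (1 + r0)) = ω * ((ω ^ (1 + r0)) ^ k * ω) := by
          rw [show 2 + k * (1 + r0) = 1 + ((1 + r0) * k + 1) by ring, pow_add, pow_one, pow_succ,
            pow_mul]
      _ = 1 := by rw [← h1, mul_inv_cancel]
  -- the diagonal
  set μ := lam * lam with hμ
  have hμmem : (conjAut (dg μ) : MulAut P₂) ∈ Γ :=
    inner_of_det_sq Γ hI _ ⟨(lam : F), by rw [det_dg, hμ, Units.val_mul]⟩
  obtain ⟨k', hk'⟩ := key (dg (μ * ω * (μ ^ r0)⁻¹)) (by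
    have hcw : Commute (conjAut (dg μ) : MulAut P₂) w := by
      show _ * _ = _ * _
      rw [hw, ← map_mul, ← map_mul, ← map_mul, ← map_mul, mul_comm]
    have h := conj_mem_of_invol hC hG0mem hμmem hwo hwmem hcw
    rwa [hG0, ← map_inv (conjAut : GL (Fin 2) F →* MulAut P₂) (dg μ), ← map_inv (dg : Fˣ →* _),
      mul_assoc, mul_assoc, fieldAut_conjAut, mapGL_dg, hmapu, ← mul_assoc, ← mul_assoc,
      ← map_mul, ← map_mul, ← map_mul, ← map_mul, inv_pow] at h)
  have hD : μ = μ ^ r0 * n ^ k' := by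
    have h1 := conjAut_dg_inj hk'
    calc μ = (μ * ω * (μ ^ r0)⁻¹) * ω⁻¹ * μ ^ r0 := by
          rw [mul_comm μ ω, mul_assoc ω, mul_comm ω]; group
      _ = n ^ k' * μ ^ r0 := by rw [h1, mul_inv_cancel_right]
      _ = _ := mul_comm _ _
  have hpow : μ ^ 2 ^ a = (μ ^ r0) ^ 2 ^ a := by
    conv_lhs => rw [hD]
    rw [mul_pow, hn, ← pow_mul, ← pow_mul, ← pow_mul,
      (howk ((1 + r0) * (k' * 2 ^ a))).2 ((dvd_mul_left _ k').mul_left _), mul_one]
  have hdvd : Fintype.card F - 1 ∣ 2 * (r0 - 1) * 2 ^ a := by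
    rw [← holam, orderOf_dvd_iff_pow_eq_one]
    rw [hμ, ← pow_two, ← pow_mul, ← pow_mul, ← pow_mul] at hpow
    have : lam ^ (2 * r0 * 2 ^ a) = lam ^ (2 * (r0 - 1) * 2 ^ a) * lam ^ (2 * 2 ^ a) := by
      rw [← pow_add]
      congr 1
      obtain ⟨b, hb'⟩ : ∃ b, r0 = b + 1 := ⟨r0 - 1, by omega⟩
      rw [hb', show b + 1 - 1 = b by omega]; ring
    rw [mul_assoc 2 r0] at this
    exact mul_eq_right.1 (this.symm.trans hpow.symm)
  rw [hqa, ← hqm, show 2 * (r0 - 1) * 2 ^ a = (r0 - 1) * 2 ^ (a + 1) by ring] at hdvd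
  obtain ⟨e, -, he⟩ := (Nat.dvd_prime_pow Nat.prime_two).1
    (Nat.dvd_of_mul_dvd_mul_left (show 0 < r0 - 1 by omega) hdvd)
  -- congruences modulo four
  have h4a : 4 ∣ 2 ^ a := (show 4 = 2 ^ 2 by norm_num) ▸ pow_dvd_pow 2 ha2
  rcases e with _ | _ | e
  · simp at he; omega
  · simp at he; omega
  · have h4 : 4 ∣ 1 + r0 := ⟨2 ^ e, by rw [add_comm, he]; ring⟩
    have := (Nat.dvd_add_left (h4.mul_left k)).1 (h4a.trans hJ)
    omega

include hI hC in
/-- The classification of the subgroup. -/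
theorem classify (hq : 4 < Fintype.card F) :
    Γ = (MulAut.conj : P₂ →* MulAut P₂).range ∨
      Γ = (conjAut : GL (Fin 2) F →* MulAut P₂).range := by
  classical
  by_cases hns : ∀ g : GL (Fin 2) F, (conjAut g : MulAut P₂) ∈ Γ →
      IsSquare (GeneralLinearGroup.det g : F)
  · left
    refine le_antisymm (fun α hα => ?_) (fun α ⟨x, hx⟩ => hx ▸ hI x)
    obtain ⟨g, rfl⟩ := mem_range hI hC hq hα
    exact inner_of_det_sq (MulAut.conj : P₂ →* MulAut P₂).range (fun x => ⟨x, rfl⟩) g (hns g hα)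
  · right
    push Not at hns
    obtain ⟨g, hg, hgs⟩ := hns
    refine le_antisymm (fun α hα => mem_range hI hC hq hα) ?_
    rintro _ ⟨h, rfl⟩
    by_cases hh : IsSquare (GeneralLinearGroup.det h : F)
    · exact inner_of_det_sq Γ hI h hh
    have hsq : IsSquare (GeneralLinearGroup.det (h * g⁻¹) : F) := by
      have hchar : ringChar F ≠ 2 := fun e => hgs (FiniteField.isSquare_of_char_two e _)
      rw [map_mul, map_inv, Units.val_mul, Units.val_inv_eq_inv_val]
      rw [FiniteField.isSquare_iff hchar (mul_ne_zero (Units.ne_zero _) (inv_ne_zero (Units.ne_zero _))),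
        mul_pow, inv_pow]
      rw [FiniteField.isSquare_iff hchar (Units.ne_zero _)] at hh hgs
      have h1 := FiniteField.pow_dichotomy hchar (Units.ne_zero (GeneralLinearGroup.det h))
      have h2 := FiniteField.pow_dichotomy hchar (Units.ne_zero (GeneralLinearGroup.det g))
      rw [h1.resolve_left hh, h2.resolve_left hgs]
      norm_num
    have := mul_mem (inner_of_det_sq Γ hI _ hsq) hg
    rwa [← map_mul, inv_mul_cancel_right] at this

theorem nonempty_equiv_projGenLin :
    Nonempty ((conjAut : GL (Fin 2) F →* MulAut P₂).range ≃* Matrix.ProjGenLinGroup (Fin 2) F) := by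
  have hk : (conjAut : GL (Fin 2) F →* MulAut P₂).ker = Subgroup.center (GL (Fin 2) F) := by
    ext k
    exact ⟨fun hk => (eq_one_of_conj_field le_rfl (σ := 1) (by rw [hk, map_one, mul_one])).1,
      conjAut_eq_one_of_center⟩
  exact ⟨(QuotientGroup.quotientKerEquivRange _).symm.trans
    (QuotientGroup.quotientMulEquivOfEq hk)⟩

end Outer

end Cfsg.Agent.Lib.NormCyclic64
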