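import Cfsg.Agent.Lib.NormCyclic64.Socle
import Cfsg.Agent.Lib.NormCyclic64.Outer

/-!
Groups without solvable normal subgroups and with the normaliser condition.
-/

set_option autoImplicit false
set_option linter.style.haveILetI false
set_option linter.unusedSectionVars false

namespace Cfsg.Agent.Lib.NormCyclic64

open Cfsg.Agent.Lib.AutPSL
open scoped MatrixGroups

universe u

theorem recognise {G : Type u} [Group G] [Finite G] [Nontrivial G]
    (hss : ∀ N : Subgroup G, N.Normal → Group.IsSolvable ↥N → N = ⊥) (hG : Cyc G) :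
    ∃ (F : Type) (_ : Field F) (_ : Fintype F), 3 < Fintype.card F ∧
      (Nonempty (G ≃* Matrix.ProjectiveSpecialLinearGroup (Fin 2) F) ∨
        Nonempty (G ≃* Matrix.ProjGenLinGroup (Fin 2) F)) := by
  classical
  obtain ⟨S, hSn, hSsimp, hSna, hC⟩ := exists_socle hG hss
  haveI := hSn
  haveI := hSsimp
  obtain ⟨F, fF, ffF, h3, h4, ⟨e⟩⟩ := simple_case (hG.subgroup S) hSna
  refine ⟨F, fF, ffF, h3, ?_⟩
  set ι : G →* MulAut (Matrix.ProjectiveSpecialLinearGroup (Fin 2) F) :=
    (MulAut.congr e).toMonoidHom.comp (MulAut.conjNormal : G →* MulAut S) with hι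
  have hinj : Function.Injective ι := by
    rw [← MonoidHom.ker_eq_bot_iff, ← le_bot_iff, ← hC]
    intro g hg
    rw [MonoidHom.mem_ker] at hg
    have hg' : (MulAut.conjNormal g : MulAut S) = 1 :=
      (MulAut.congr e).injective (hg.trans (map_one (MulAut.congr e)).symm)
    rw [Subgroup.mem_centralizer_iff]
    intro n hn
    have := congrArg (fun a : MulAut S => ((a ⟨n, hn⟩ : S) : G)) hg'
    simp only [MulAut.conjNormal_apply, MulAut.one_apply] at this
    exact (mul_inv_eq_iff_eq_mul.1 this).symm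
  have hN : ∀ n : S, ι n = MulAut.conj (e n) := by
    intro n
    ext z
    obtain ⟨m, rfl⟩ := e.surjective z
    show e ((MulAut.conjNormal (n : G) : MulAut S) (e.symm (e m))) = _
    rw [e.symm_apply_apply, MulAut.conj_apply, ← map_inv, ← map_mul, ← map_mul]
    exact congrArg e (Subtype.ext rfl)
  have hI : ∀ x, MulAut.conj x ∈ ι.range := fun x =>
    ⟨(e.symm x : G), by rw [hN, e.apply_symm_apply]⟩
  let eG : G ≃* ι.range := MonoidHom.ofInjective hinj
  haveI : Finite (MulAut (Matrix.ProjectiveSpecialLinearGroup (Fin 2) F)) :=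
    Finite.of_injective MulEquiv.toEquiv MulEquiv.toEquiv_injective
  have hCR : Cyc ι.range := hG.of_injective eG.symm.toMonoidHom eG.symm.injective
  haveI : IsSimpleGroup (Matrix.ProjectiveSpecialLinearGroup (Fin 2) F) :=
    Lib.Linear.isSimpleGroup_PSL le_rfl (fun _ => by rw [Nat.card_eq_fintype_card]; omega)
  rcases classify (F := F) hI hCR (by omega) with h | h
  · refine Or.inl ⟨eG.trans ((MulEquiv.subgroupCongr h).trans
      (MonoidHom.ofInjective (f := MulAut.conj) ?_).symm)⟩
    rw [← MonoidHom.ker_eq_bot_iff]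
    refine ((inferInstance : (MonoidHom.ker (MulAut.conj :
      Matrix.ProjectiveSpecialLinearGroup (Fin 2) F →* _)).Normal).eq_bot_or_eq_top).resolve_right
      fun ht => hSna ⟨⟨fun a b => ?_⟩⟩
    have hm : e a ∈ (MulAut.conj :
        Matrix.ProjectiveSpecialLinearGroup (Fin 2) F →* _).ker := ht.symm ▸ Subgroup.mem_top _
    have := congrArg (fun f : MulAut (Matrix.ProjectiveSpecialLinearGroup (Fin 2) F) => f (e b))
      (MonoidHom.mem_ker.1 hm)
    simp only [MulAut.conj_apply, MulAut.one_apply] at this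
    refine e.injective ?_
    rw [map_mul, map_mul]
    exact mul_inv_eq_iff_eq_mul.1 this
  · obtain ⟨e'⟩ := nonempty_equiv_projGenLin (F := F)
    exact Or.inr ⟨eG.trans ((MulEquiv.subgroupCongr h).trans e')⟩

end Cfsg.Agent.Lib.NormCyclic64
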