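import Cfsg.Agent.Lib.NormCyclic64.TwoSylow
import Cfsg.Agent.Lib.Involutions.BaerSuzuki

/-!
All involution centralisers are `2`-groups and two Sylow `2`-subgroups meet non-trivially.
-/

set_option autoImplicit false
set_option linter.style.haveILetI false
set_option linter.unusedSectionVars false

namespace Cfsg.Agent.Lib.NormCyclic64

open Subgroup
open Cfsg.Agent.Lib.Involutions.Basic

universe u

variable {L : Type u} [Group L] [Finite L]

/-- An element of order four in a `2`-subgroup. -/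
theorem exists_central_invol_sub (Q : Subgroup L) (hQ : IsPGroup 2 Q) (hne : Q ≠ ⊥) :
    ∃ z ∈ Q, orderOf z = 2 ∧ ∀ q ∈ Q, Commute z q := by
  haveI : Fact (Nat.Prime 2) := ⟨Nat.prime_two⟩
  haveI : Nontrivial Q := (nontrivial_iff_ne_bot Q).2 hne
  haveI := hQ.center_nontrivial
  obtain ⟨k, hk⟩ := IsPGroup.iff_card.1 (hQ.to_subgroup (center Q))
  have hk0 : k ≠ 0 := by
    rintro rfl
    have := Finite.one_lt_card (α := center Q)
    rw [hk] at this; simp at this
  obtain ⟨z, hz⟩ := exists_prime_orderOf_dvd_card' (G := center Q) 2 (hk ▸ dvd_pow_self 2 hk0)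
  rw [← Subgroup.orderOf_coe, ← Subgroup.orderOf_coe] at hz
  exact ⟨_, (z : Q).2, hz, fun q hq => (congrArg Subtype.val (mem_center_iff.1 z.2 ⟨q, hq⟩)).symm⟩

/-- The local configuration: a `2`-subgroup `Q`, normalised by `N`, containing the kernel of the
action of `N` on its central involutions, an element `s` outside and an element of odd order
inverted by `s`. -/
structure LocalConf (N Q : Subgroup L) (s y : L) : Prop where
  le : Q ≤ N
  two : IsPGroup 2 Q
  ne_bot : Q ≠ ⊥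
  conj : ∀ n ∈ N, ∀ q ∈ Q, n * q * n⁻¹ ∈ Q
  big : ∀ M : Subgroup L, M ≤ N → (∀ n ∈ N, ∀ m ∈ M, n * m * n⁻¹ ∈ M) → IsPGroup 2 M → M ≤ Q
  sN : s ∈ N
  yN : y ∈ N
  snQ : s ∉ Q
  sq : s * s ∈ Q
  yodd : Odd (orderOf y)
  y1 : y ≠ 1
  inv : s * y * s⁻¹ * y ∈ Q
  centD : ∀ c : L, (∀ q ∈ Q, Commute c q) → c ∈ N

theorem exists_localConf
    (hTI : ¬ ∀ P Q : Sylow 2 L, P ≠ Q → (P : Subgroup L) ⊓ (Q : Subgroup L) = ⊥) :
    ∃ (N Q : Subgroup L) (s y : L), LocalConf N Q s y := by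
  classical
  haveI : Fact (Nat.Prime 2) := ⟨Nat.prime_two⟩
  push Not at hTI
  obtain ⟨P0, Q0, hne0, hbot0⟩ := hTI
  obtain ⟨⟨P1, P2⟩, hne, hmax⟩ := Set.exists_max_image
    {q : Sylow 2 L × Sylow 2 L | q.1 ≠ q.2}
    (fun q => Nat.card ((q.1 : Subgroup L) ⊓ (q.2 : Subgroup L) : Subgroup L))
    (Set.toFinite _) ⟨(P0, Q0), hne0⟩
  simp only [Set.mem_ofPred_eq] at hne hmax
  set D := (P1 : Subgroup L) ⊓ (P2 : Subgroup L) with hD
  have hD1 : D ≠ ⊥ := by
    intro e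
    have h1 := hmax (P0, Q0) hne0
    rw [e, card_bot] at h1
    exact hbot0 (eq_bot_of_card_le _ h1)
  set N := normalizer (D : Set L) with hN
  have hDN : D ≤ N := le_normalizer
  let Qn : Subgroup N := Cfsg.pCore 2 N
  set Q : Subgroup L := Qn.map N.subtype with hQ
  have hQ2 : IsPGroup 2 Q := (Lib.Cores.pCore_isPGroup 2).map _
  have hQN : Q ≤ N := map_subtype_le _
  have hDQ : D ≤ Q := by
    haveI : (D.subgroupOf N).Normal := normal_in_normalizer
    have h1 : D.subgroupOf N ≤ Qn :=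
      Lib.Cores.le_pCore ((P1.2.to_le inf_le_left).comap_of_injective N.subtype N.subtype_injective)
    intro d hd
    exact ⟨⟨d, hDN hd⟩, h1 (mem_subgroupOf.2 hd), rfl⟩
  -- a `2`-element outside `Q`
  obtain ⟨s0, hs0N, hs0Q, k0, hk0⟩ : ∃ s0 ∈ N, s0 ∉ Q ∧ ∃ k, orderOf s0 = 2 ^ k := by
    by_contra hcon
    push Not at hcon
    obtain ⟨P3, hP3⟩ := hQ2.exists_le_sylow
    have key : ∀ P : Sylow 2 L, D ≤ (P : Subgroup L) → (P : Subgroup L) ≠ D → P = P3 := by
      intro P hDP hPne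
      by_contra hP
      haveI : Group.IsNilpotent (P : Subgroup L) := P.2.isNilpotent
      have hlt := Cfsg.Agent.Lib.Involutions.StronglyEmbedded.lt_inf_normalizer
        (lt_of_le_of_ne hDP (Ne.symm hPne))
      have hle : (P : Subgroup L) ⊓ N ≤ (P : Subgroup L) ⊓ (P3 : Subgroup L) := by
        refine le_inf inf_le_left fun a ha => hP3 (by_contra fun haQ => ?_)
        obtain ⟨k, hk⟩ := IsPGroup.iff_orderOf.1 P.2 ⟨a, ha.1⟩
        rw [Subgroup.orderOf_mk] at hk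
        exact hcon a ha.2 haQ k hk
      have h1 : Nat.card D < Nat.card ((P : Subgroup L) ⊓ (P3 : Subgroup L) : Subgroup L) :=
        lt_of_lt_of_le (lt_of_le_of_ne (card_le_of_le hlt.le)
          fun e => hlt.ne (eq_of_le_of_card_ge hlt.le e.ge)) (card_le_of_le hle)
      exact absurd (hmax (P, P3) hP) (not_le.2 h1)
    have hneD : ∀ P P' : Sylow 2 L, P ≠ P' → D = (P : Subgroup L) ⊓ P' → (P : Subgroup L) ≠ D := by
      intro P P' hPP hDe e
      exact hPP (Sylow.ext (eq_of_le_of_card_ge (by rw [e, hDe]; exact inf_le_right)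
        (P.card_eq_multiplicity.trans P'.card_eq_multiplicity.symm).ge))
    exact hne ((key P1 inf_le_left (hneD P1 P2 hne hD)).trans
      (key P2 inf_le_right (hneD P2 P1 (Ne.symm hne) (hD.trans (inf_comm _ _)))).symm)
  haveI : Qn.Normal := inferInstance
  set π := QuotientGroup.mk' Qn with hπ
  have hs0' : π ⟨s0, hs0N⟩ ≠ 1 := fun e => hs0Q ⟨_, (QuotientGroup.eq_one_iff _).1 e, rfl⟩
  have he : Even (orderOf (π ⟨s0, hs0N⟩)) := by
    have h1 : orderOf (π ⟨s0, hs0N⟩) ∣ 2 ^ k0 := by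
      rw [← hk0, ← Subgroup.orderOf_mk s0 hs0N]; exact orderOf_map_dvd _ _
    obtain ⟨i, -, hi⟩ := (Nat.dvd_prime_pow Nat.prime_two).1 h1
    rcases i with _ | i
    · exact absurd (orderOf_eq_one_iff.1 hi) hs0'
    · rw [hi]; simp [Nat.even_pow]
  have hτ := orderOf_pow_half he
  set τ := π ⟨s0, hs0N⟩ ^ (orderOf (π ⟨s0, hs0N⟩) / 2)
  obtain ⟨h, hh1, hho, hhinv⟩ := Cfsg.Agent.Lib.Involutions.BaerSuzuki.exists_odd_inverted τ hτ
    (fun M hM hM2 hτM => invol_ne_one hτ (by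
      haveI := hM
      have : M ≤ ⊥ := (Lib.Cores.le_pCore hM2).trans (Lib.Cores.pCore_quotient_pCore 2).le
      exact mem_bot.1 (this hτM)))
  obtain ⟨s, hs⟩ := QuotientGroup.mk'_surjective Qn τ
  obtain ⟨y0, hy0⟩ := QuotientGroup.mk'_surjective Qn h
  set a := (orderOf y0).factorization 2
  have hy0o : orderOf (y0 ^ 2 ^ a) = orderOf y0 / 2 ^ a :=
    orderOf_pow_of_dvd (by positivity) (Nat.ordProj_dvd _ _)
  have hyodd : Odd (orderOf (y0 ^ 2 ^ a)) := by
    rw [hy0o]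
    exact Nat.odd_iff.2 (Nat.two_dvd_ne_zero.1
      (Nat.not_dvd_ordCompl Nat.prime_two (orderOf_pos y0).ne'))
  refine ⟨N, Q, (s : L), ((y0 ^ 2 ^ a : N) : L), hQN, hQ2, fun e => hD1 (le_bot_iff.1 (e ▸ hDQ)),
    ?_, ?_, s.2, (y0 ^ 2 ^ a).2, ?_, ?_, ?_, ?_, ?_, ?_⟩
  · rintro n hn _ ⟨q, hq, rfl⟩
    exact ⟨⟨n, hn⟩ * q * ⟨n, hn⟩⁻¹, (inferInstance : Qn.Normal).conj_mem q hq _, rfl⟩
  · intro M hMN hMconj hM2
    haveI : (M.subgroupOf N).Normal := ⟨fun m hm n => mem_subgroupOf.2 (hMconj n n.2 m (mem_subgroupOf.1 hm))⟩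
    have h1 : M.subgroupOf N ≤ Qn :=
      Lib.Cores.le_pCore (hM2.comap_of_injective N.subtype N.subtype_injective)
    intro m hm
    exact ⟨⟨m, hMN hm⟩, h1 (mem_subgroupOf.2 hm), rfl⟩
  · rw [hQ, ← N.coe_subtype, mem_map_iff_mem N.subtype_injective]
    intro e
    exact invol_ne_one hτ (hs ▸ (QuotientGroup.eq_one_iff s).2 e)
  · refine ⟨s * s, (QuotientGroup.eq_one_iff _).1 ?_, rfl⟩
    show π (s * s) = 1
    rw [map_mul, hs, invol_mul_self hτ]
  · rw [Subgroup.orderOf_coe]; exact hyodd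
  · intro e
    have e' : y0 ^ 2 ^ a = 1 := Subtype.ext e
    have h2 := congrArg π e'
    rw [map_pow, hy0, map_one] at h2
    obtain ⟨i, -, hi⟩ := (Nat.dvd_prime_pow Nat.prime_two).1 (orderOf_dvd_of_pow_eq_one h2)
    exact hh1 (eq_one_of_odd_two_pow hho hi)
  · refine ⟨s * y0 ^ 2 ^ a * s⁻¹ * y0 ^ 2 ^ a, (QuotientGroup.eq_one_iff _).1 ?_, rfl⟩
    show π _ = 1
    rw [map_mul, map_mul, map_mul, map_inv, map_pow, hs, hy0, ← conj_pow, hhinv, inv_pow,
      inv_mul_cancel]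
  · intro c hc
    rw [hN, mem_normalizer_iff]
    intro d
    constructor
    · intro hd; rwa [(hc d (hDQ hd)).eq, mul_inv_cancel_right]
    · intro hd
      have h1 := hc _ (hDQ hd)
      have h2 : c * d * c⁻¹ = d := mul_left_cancel (a := c) (by rw [h1.eq]; group)
      rwa [h2] at hd

variable [IsSimpleGroup L]

theorem meet_case (hG : Cyc L) (hna : ¬ IsMulCommutative L)
    (hCIT : ∀ t : L, orderOf t = 2 → IsPGroup 2 (centralizer ({t} : Set L)))
    {N Q : Subgroup L} {s y : L} (hc : LocalConf N Q s y) : OddPSL L := by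
  classical
  haveI : Fact (Nat.Prime 2) := ⟨Nat.prime_two⟩
  obtain ⟨hQN, hQ2, hQne, hconj, hbig, hsN0, hyN, hsQ0, hsq0, hyo, hy1, hinv0, hcent⟩ := hc
  let V : Subgroup L :=
    { carrier := {x | x ∈ Q ∧ x * x = 1 ∧ ∀ q ∈ Q, Commute x q}
      one_mem' := ⟨one_mem Q, one_mul 1, fun q _ => Commute.one_left q⟩
      mul_mem' := by
        rintro a b ⟨ha, ha2, hac⟩ ⟨hb, hb2, hbc⟩
        refine ⟨mul_mem ha hb, ?_, fun q hq => (hac q hq).mul_left (hbc q hq)⟩
        calc a * b * (a * b) = a * (b * a) * b := by group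
          _ = a * (a * b) * b := by rw [(hbc a ha).eq]
          _ = (a * a) * (b * b) := by group
          _ = 1 := by rw [ha2, hb2, one_mul]
      inv_mem' := by
        rintro a ⟨ha, ha2, hac⟩
        rw [inv_eq_of_mul_eq_one_right ha2]
        exact ⟨ha, ha2, hac⟩ }
  have hV : ∀ x, x ∈ V ↔ x ∈ Q ∧ x * x = 1 ∧ ∀ q ∈ Q, Commute x q := fun x => Iff.rfl
  have hVQ : V ≤ Q := fun x hx => hx.1
  have hVcomm : ∀ a ∈ V, ∀ b ∈ V, Commute a b := fun a ha b hb => ha.2.2 b hb.1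
  have hVinv : ∀ a ∈ V, a⁻¹ = a := fun a ha => inv_eq_of_mul_eq_one_right ha.2.1
  have hVo : ∀ a ∈ V, a ≠ 1 → orderOf a = 2 := fun a ha ha1 => invol_iff.2 ⟨ha.2.1, ha1⟩
  have hVconj : ∀ n ∈ N, ∀ x ∈ V, n * x * n⁻¹ ∈ V := by
    intro n hn x hx
    refine ⟨hconj n hn x hx.1, ?_, fun q hq => ?_⟩
    · rw [show n * x * n⁻¹ * (n * x * n⁻¹) = n * (x * x) * n⁻¹ by group, hx.2.1]; group
    · have h1 : n⁻¹ * q * n ∈ Q := by simpa using hconj n⁻¹ (inv_mem hn) q hq
      have := (hx.2.2 _ h1).map (MulAut.conj n).toMonoidHom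
      simpa [mul_assoc] using this
  obtain ⟨v0, hv0Q, hv0o, hv0c⟩ := exists_central_invol_sub Q hQ2 hQne
  have hv0 : v0 ∈ V := ⟨hv0Q, invol_mul_self hv0o, hv0c⟩
  -- the kernel on `V` is `Q`
  have hker : ∀ n ∈ N, (∀ x ∈ V, Commute n x) → n ∈ Q := by
    intro n hn hnc
    let M : Subgroup L := N ⊓ centralizer (V : Set L)
    have hnM : n ∈ M := ⟨hn, mem_centralizer_iff.2 fun x hx => (hnc x hx).symm⟩
    refine hbig M inf_le_left ?_ ?_ hnM
    · intro a ha m hm
      refine ⟨N.mul_mem (N.mul_mem ha hm.1) (N.inv_mem ha), mem_centralizer_iff.2 fun x hx => ?_⟩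
      have h1 := mem_centralizer_iff.1 hm.2 _ (by simpa using hVconj a⁻¹ (inv_mem ha) x hx)
      have := (show Commute (a⁻¹ * x * a) m from h1).map (MulAut.conj a).toMonoidHom
      simpa [mul_assoc] using this.eq
    · refine (hCIT v0 hv0o).to_le fun a ha => mem_cent.2 ?_
      exact (mem_centralizer_iff.1 ha.2 v0 hv0).symm
  -- `y` moves all non-identity elements of `V`
  have hyfix : ∀ v ∈ V, Commute y v → v = 1 := by
    intro v hv hyv
    by_contra hv1
    obtain ⟨k, hk⟩ := IsPGroup.iff_orderOf.1 (hCIT v (hVo v hv hv1)) ⟨y, mem_cent.2 hyv⟩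
    rw [Subgroup.orderOf_mk] at hk
    exact hy1 (eq_one_of_odd_two_pow hyo hk)
  -- normalise `s`
  obtain ⟨s, c, hsN, hsQ, hsq, hinv, hcV, hc1, hcs, hcomm⟩ :
      ∃ s c : L, s ∈ N ∧ s ∉ Q ∧ s * s ∈ Q ∧ s * y * s⁻¹ * y ∈ Q ∧ c ∈ V ∧ c ≠ 1 ∧
        c ∈ zpowers s ∧ ∀ q ∈ V, s * q * s⁻¹ = q ∨ s * q * s⁻¹ = q * c := by
    have hmoved : ∀ s', s' ∈ N → s' ∉ Q → ∃ q ∈ V, s' * q * s'⁻¹ ≠ q := by
      intro s' hs' hs'Q
      by_contra hno
      push Not at hno
      exact hs'Q (hker s' hs' fun x hx => mul_inv_eq_iff_eq_mul.1 (hno x hx))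
    have hgen : ∀ s' u : L, s' ∈ N → s' ∉ Q → orderOf u = 2 → u ∈ zpowers s' → u ∈ Q →
        u ∈ V ∧ u ≠ 1 ∧ ∀ q ∈ V, s' * q * s'⁻¹ = q ∨ s' * q * s'⁻¹ = q * u := by
      intro s' u hs' hs'Q hu hus huQ
      have key : ∀ q ∈ V, q * (s' * q * s'⁻¹) ∈ zpowers s' ∧ q * (s' * q * s'⁻¹) ∈ V := by
        intro q hq
        refine ⟨?_, mul_mem hq (hVconj s' hs' q hq)⟩
        have h1 := (hG.conj_mem_iff hu hus).2 (hq.2.2 u huQ)
        have h2 := mul_mem (mem_zpowers s') (inv_mem h1)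
        have h3 : s' * (q * s' * q⁻¹)⁻¹ = (s' * q * s'⁻¹) * q⁻¹ := by group
        rw [h3, hVinv q hq] at h2
        rwa [(hVcomm q hq _ (hVconj s' hs' q hq)).eq]
      have hval : ∀ q ∈ V, q * (s' * q * s'⁻¹) = 1 ∨ q * (s' * q * s'⁻¹) = u := by
        intro q hq
        refine or_iff_not_imp_left.2 fun hne => ?_
        obtain ⟨h1, h2⟩ := key q hq
        exact (invol_unique_zpowers (hVo _ h2 hne) h1).2.trans (invol_unique_zpowers hu hus).2.symm
      have hback : ∀ q ∈ V, ∀ e, q * (s' * q * s'⁻¹) = e → s' * q * s'⁻¹ = q * e := by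
        intro q hq e he
        rw [← he, ← mul_assoc, hq.2.1, one_mul]
      obtain ⟨q0, hq0, hq0ne⟩ := hmoved s' hs' hs'Q
      have hu' : q0 * (s' * q0 * s'⁻¹) = u :=
        (hval q0 hq0).resolve_left fun e => hq0ne (by rw [hback q0 hq0 1 e, mul_one])
      refine ⟨hu' ▸ (key q0 hq0).2, invol_ne_one hu, fun q hq => ?_⟩
      rcases hval q hq with e | e
      · left; rw [hback q hq 1 e, mul_one]
      · right; exact hback q hq u e
    by_cases hss : s * s = 1
    · obtain ⟨q, hq, hqs⟩ := hmoved s hsN0 hsQ0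
      set u := q * (s * q * s⁻¹) with hu
      have huV : u ∈ V := mul_mem hq (hVconj s hsN0 q hq)
      have hu1 : u ≠ 1 := fun e => hqs (by
        rw [← mul_one q]
        conv_rhs => rw [← e]
        rw [hu, ← mul_assoc q q, hq.2.1, one_mul, mul_one])
      have hqs2 : q * s * (q * s) = u := by
        rw [hu, inv_eq_of_mul_eq_one_right hss]; group
      have hus : u ∈ zpowers (q * s) := hqs2 ▸ mul_mem (mem_zpowers _) (mem_zpowers _)
      have hqsN : q * s ∈ N := mul_mem (hQN (hVQ hq)) hsN0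
      have hqsQ : q * s ∉ Q := fun h => hsQ0 ((Q.mul_mem_cancel_left (hVQ hq)).1 h)
      obtain ⟨-, -, hcm⟩ := hgen (q * s) u hqsN hqsQ (hVo u huV hu1) hus huV.1
      refine ⟨q * s, u, hqsN, hqsQ, hqs2 ▸ huV.1, ?_, huV, hu1, hus, hcm⟩
      have h1 : y⁻¹ * q⁻¹ * y ∈ Q := by
        simpa using hconj y⁻¹ (inv_mem hyN) q⁻¹ (inv_mem (hVQ hq))
      rw [show q * s * y * (q * s)⁻¹ * y = q * (s * y * s⁻¹ * y) * (y⁻¹ * q⁻¹ * y) by group]
      exact mul_mem (mul_mem (hVQ hq) hinv0) h1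
    · have hsk : ∃ k, orderOf s = 2 ^ k := by
        obtain ⟨k, hk⟩ := IsPGroup.iff_orderOf.1 hQ2 ⟨s * s, hsq0⟩
        rw [Subgroup.orderOf_mk] at hk
        obtain ⟨i, -, hi⟩ := (Nat.dvd_prime_pow Nat.prime_two).1
          (orderOf_dvd_of_pow_eq_one (show s ^ 2 ^ (k + 1) = 1 by
            rw [pow_succ', pow_mul, pow_two, ← hk, pow_orderOf_eq_one]))
        exact ⟨i, hi⟩
      obtain ⟨k, hk⟩ := hsk
      obtain ⟨u, hu, hu2, hu1⟩ := exists_invol_sq hk hss
      obtain ⟨huV, hune, hcm⟩ := hgen s u hsN0 hsQ0 hu hu1 (zpowers_le.2 hsq0 hu2)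
      exact ⟨s, u, hsN0, hsQ0, hsq0, hinv0, huV, hune, hu1, hcm⟩
  have hco := hVo c hcV hc1
  have hsc : Commute s c := commute_of_mem_zpowers hcs (Commute.refl s)
  -- the fixed points of `s` and of its conjugate meet trivially
  have hmeet : ∀ v ∈ V, Commute s v → Commute s (y * v * y⁻¹) → v = 1 := by
    intro v hv hsv hsv'
    have hb : y * (y * v * y⁻¹) * y⁻¹ ∈ V := hVconj y hyN _ (hVconj y hyN v hv)
    set q0 := s * y * s⁻¹ * y with hq0
    have h1 : s * (y * v * y⁻¹) * s⁻¹ = q0 * (y⁻¹ * v * y) * q0⁻¹ := by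
      calc s * (y * v * y⁻¹) * s⁻¹ = (s * y * s⁻¹) * (s * v * s⁻¹) * (s * y * s⁻¹)⁻¹ := by group
        _ = (q0 * y⁻¹) * v * (q0 * y⁻¹)⁻¹ := by
          rw [hsv.eq, mul_inv_cancel_right, hq0]; group
        _ = _ := by group
    have h2 : y⁻¹ * v * y ∈ V := by simpa using hVconj y⁻¹ (inv_mem hyN) v hv
    rw [hsv'.eq, mul_inv_cancel_right, ← (h2.2.2 q0 hinv).eq, mul_inv_cancel_right] at h1
    have hy2 : Commute (y * y) v := by
      show y * y * v = v * (y * y)
      calc y * y * v = y * (y * v * y⁻¹) * y := by group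
        _ = y * (y⁻¹ * v * y) * y := by rw [h1]
        _ = v * (y * y) := by group
    refine hyfix v hv ?_
    obtain ⟨j, hj⟩ := hyo
    have : y = (y * y) ^ (j + 1) := by
      rw [← pow_two, ← pow_mul, show 2 * (j + 1) = 2 * j + 1 + 1 by ring, pow_succ, ← hj,
        pow_orderOf_eq_one, one_mul]
    rw [this]
    exact hy2.pow_left _
  have hfix : ∀ v ∈ V, Commute s v → v = 1 ∨ v = c := by
    intro v hv hsv
    refine or_iff_not_imp_left.2 fun hv1 => ?_
    have hd : ∀ a ∈ V, a ≠ 1 → Commute s a → s * (y * a * y⁻¹) * s⁻¹ = (y * a * y⁻¹) * c :=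
      fun a ha ha1 hsa => (hcomm _ (hVconj y hyN a ha)).resolve_left fun e =>
        ha1 (hmeet a ha hsa (mul_inv_eq_iff_eq_mul.1 e))
    by_contra hne
    have hvc1 : v * c ≠ 1 := fun e => hne (by
      rw [eq_inv_of_mul_eq_one_left e, hVinv c hcV])
    have h1 := hd v hv hv1 hsv
    have h2 := hd c hcV hc1 hsc
    have h3 := hd (v * c) (mul_mem hv hcV) hvc1 (hsv.mul_right hsc)
    rw [show y * (v * c) * y⁻¹ = (y * v * y⁻¹) * (y * c * y⁻¹) by group] at h3
    rw [show s * ((y * v * y⁻¹) * (y * c * y⁻¹)) * s⁻¹ =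
        (s * (y * v * y⁻¹) * s⁻¹) * (s * (y * c * y⁻¹) * s⁻¹) by group, h1, h2] at h3
    refine hc1 ?_
    have ha := hVconj y hyN v hv
    have hb := hVconj y hyN c hcV
    set A := y * v * y⁻¹
    set B := y * c * y⁻¹
    calc c = (A * B)⁻¹ * (A * B * c) := by group
      _ = (A * B)⁻¹ * (A * c * (B * c)) := by rw [h3]
      _ = (A * B)⁻¹ * (A * (c * B) * c) := by group
      _ = (A * B)⁻¹ * (A * (B * c) * c) := by rw [(hVcomm c hcV B hb).eq]
      _ = 1 := by rw [mul_assoc A (B * c), mul_assoc B, hcV.2.1]; group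
  set q := y * c * y⁻¹ with hqdef
  have hqV : q ∈ V := hVconj y hyN c hcV
  have hq1 : q ≠ 1 := conj_ne_one hc1
  have hqc : q ≠ c := fun e => hc1 (hyfix c hcV (mul_inv_eq_iff_eq_mul.1 e))
  have hsq' : s * q * s⁻¹ = q * c := (hcomm q hqV).resolve_left fun e =>
    (hfix q hqV (mul_inv_eq_iff_eq_mul.1 e)).elim hq1 hqc
  have hqc1 : q * c ≠ 1 := fun e => hqc (by rw [eq_inv_of_mul_eq_one_left e, hVinv c hcV])
  have hVall : ∀ v ∈ V, v = 1 ∨ v = c ∨ v = q ∨ v = q * c := by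
    intro v hv
    rcases hcomm v hv with e | e
    · rcases hfix v hv (mul_inv_eq_iff_eq_mul.1 e) with h | h <;> simp [h]
    · have h1 : Commute s (v * q) := by
        refine mul_inv_eq_iff_eq_mul.1 ?_
        rw [show s * (v * q) * s⁻¹ = (s * v * s⁻¹) * (s * q * s⁻¹) by group, e, hsq',
          show v * c * (q * c) = v * (c * q) * c by group, (hVcomm c hcV q hqV).eq,
          show v * (q * c) * c = v * q * (c * c) by group, hcV.2.1, mul_one]
      rcases hfix _ (mul_mem hv hqV) h1 with h | h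
      · right; right; left
        rw [eq_inv_of_mul_eq_one_left h, hVinv q hqV]
      · right; right; right
        rw [(hVcomm q hqV c hcV).eq, ← h, mul_assoc, hqV.2.1, mul_one]
  have htrans : ∀ v ∈ V, v ≠ 1 → ∃ n ∈ N, n * v * n⁻¹ = c := by
    intro v hv hv1
    have hy' : y⁻¹ ∈ N := inv_mem hyN
    have hq2 : y * q * y⁻¹ = q * c := by
      rcases hVall _ (hVconj y hyN q hqV) with e | e | e | e
      · exact absurd e (conj_ne_one hq1)
      · exfalso
        refine hc1 (hyfix c hcV ?_)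
        obtain ⟨j, hj⟩ := hyo
        have h2 : Commute (y * y) c := by
          refine mul_inv_eq_iff_eq_mul.1 ?_
          rw [show y * y * c * (y * y)⁻¹ = y * q * y⁻¹ by rw [hqdef]; group, e]
        have : y = (y * y) ^ (j + 1) := by
          rw [← pow_two, ← pow_mul, show 2 * (j + 1) = 2 * j + 1 + 1 by ring, pow_succ, ← hj,
            pow_orderOf_eq_one, one_mul]
        rw [this]; exact h2.pow_left _
      · exact absurd (hyfix q hqV (mul_inv_eq_iff_eq_mul.1 e)) hq1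
      · exact e
    rcases hVall v hv with e | e | e | e
    · exact absurd e hv1
    · exact ⟨1, one_mem N, by simp [e]⟩
    · exact ⟨y⁻¹, hy', by rw [e, hqdef]; group⟩
    · exact ⟨y⁻¹ * y⁻¹, mul_mem hy' hy', by rw [e, ← hq2, hqdef]; group⟩
  have hnc : ∀ v ∈ V, v ≠ 1 → v ≠ c → s * v * s⁻¹ ≠ v := fun v hv hv1 hvc e =>
    (hfix v hv (mul_inv_eq_iff_eq_mul.1 e)).elim hv1 hvc
  -- no element of order four in `Q` squares into `V`
  have hnofour : ∀ x ∈ Q, x * x ∈ V → x * x = 1 := by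
    intro x0 hx0 hx0V
    by_contra hne
    obtain ⟨n, hn, hnx⟩ := htrans (x0 * x0) hx0V hne
    set x1 := y * (n * x0 * n⁻¹) * y⁻¹ with hx1def
    have hx1Q : x1 ∈ Q := hconj y hyN _ (hconj n hn x0 hx0)
    have hx1q : x1 * x1 = q := by rw [hx1def, hqdef, ← hnx]; group
    set x2 := s * x1 * s⁻¹ with hx2def
    have hx2Q : x2 ∈ Q := hconj s hsN x1 hx1Q
    have hx2q : x2 * x2 = q * c := by rw [← hsq', ← hx1q, hx2def]; group
    have hm1 : q ∈ zpowers x1 := hx1q ▸ mul_mem (mem_zpowers _) (mem_zpowers _)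
    have hm2 : q * c ∈ zpowers x2 := hx2q ▸ mul_mem (mem_zpowers _) (mem_zpowers _)
    have hqco := hVo (q * c) (mul_mem hqV hcV) hqc1
    have hqo := hVo q hqV hq1
    have hn1 : ∀ a ∈ Q, a * x1 * a⁻¹ ∈ zpowers x1 := fun a ha =>
      (hG.conj_mem_iff hqo hm1).2 (hqV.2.2 a ha).symm
    have hn2 : ∀ a ∈ Q, a * x2 * a⁻¹ ∈ zpowers x2 := fun a ha =>
      (hG.conj_mem_iff hqco hm2).2 ((mul_mem hqV hcV : q * c ∈ V).2.2 a ha).symm
    have huniq : ∀ u, u ∈ zpowers x1 → orderOf u = 2 → u = q := fun u hu huo =>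
      (invol_unique_zpowers huo hu).2.trans (invol_unique_zpowers hqo hm1).2.symm
    have hx12 : Commute x2 x1 := by
      refine commute_of_mutual (hn1 x2 hx2Q) (hn2 x1 hx1Q) fun k hk1 hk2 => by_contra fun hk => ?_
      obtain ⟨j, hj⟩ := IsPGroup.iff_orderOf.1 hQ2 ⟨k, zpowers_le.2 hx1Q hk1⟩
      rw [Subgroup.orderOf_mk] at hj
      have he : Even (orderOf k) := by
        rcases j with _ | j
        · exact absurd (orderOf_eq_one_iff.1 hj) hk
        · rw [hj]; simp [Nat.even_pow]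
      have hp := npow_mem_zpowers k (orderOf k / 2)
      have e1 := huniq _ (zpowers_le.2 hk1 hp) (orderOf_pow_half he)
      have e2 := (invol_unique_zpowers (orderOf_pow_half he) (zpowers_le.2 hk2 hp)).2.trans
        (invol_unique_zpowers hqco hm2).2.symm
      exact hc1 (mul_eq_left.1 (e1.symm.trans e2).symm)
    set c1 := x2 * x1⁻¹ with hc1def
    have hc1s : c1 ∈ zpowers s := by
      have h1 := (hG.conj_mem_iff hco hcs).2 (hcV.2.2 x1 hx1Q).symm
      have h2 : c1 = s * (x1 * s * x1⁻¹)⁻¹ := by rw [hc1def, hx2def]; group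
      rw [h2]
      exact mul_mem (mem_zpowers s) (inv_mem h1)
    have hsc1 : s * c1 * s⁻¹ = c1 := by
      rw [(commute_of_mem_zpowers hc1s (Commute.refl s)).eq, mul_inv_cancel_right]
    set x3 := s * x2 * s⁻¹ with hx3def
    have h3 : x3 * x2⁻¹ = x2 * x1⁻¹ := by
      rw [← hc1def, ← hsc1, hc1def, hx3def, hx2def]; group
    have h4 : x2 * x2 * x1⁻¹ ∈ zpowers x1 := by
      have h5 : x3 = (s * s) * x1 * (s * s)⁻¹ := by rw [hx3def, hx2def]; group
      have h6 : x3 = x2 * x2 * x1⁻¹ := by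
        calc x3 = x2 * x1⁻¹ * x2 := by rw [← h3]; group
          _ = x2 * (x1⁻¹ * x2) := by group
          _ = x2 * (x2 * x1⁻¹) := by rw [(hx12.inv_right).eq]
          _ = _ := by group
      rw [← h6, h5]
      exact hn1 _ hsq
    have h7 : q * c ∈ zpowers x1 := by
      have := mul_mem h4 (mem_zpowers x1)
      rwa [inv_mul_cancel_right, hx2q] at this
    exact hc1 (mul_eq_left.1 (huniq _ h7 hqco))
  -- `Q = V`
  have hQV : Q ≤ V := by
    by_contra hle
    haveI : (V.subgroupOf Q).Normal :=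
      ⟨fun m hm g => mem_subgroupOf.2 (hVconj g (hQN g.2) m (mem_subgroupOf.1 hm))⟩
    set π := QuotientGroup.mk' (V.subgroupOf Q)
    have hQ2' : IsPGroup 2 (Q ⧸ V.subgroupOf Q) := hQ2.to_quotient _
    haveI : Nontrivial (Q ⧸ V.subgroupOf Q) := by
      obtain ⟨a, ha, haV⟩ := SetLike.not_le_iff_exists.1 hle
      exact ⟨⟨π ⟨a, ha⟩, 1, fun e => haV (mem_subgroupOf.1 ((QuotientGroup.eq_one_iff _).1 e))⟩⟩
    haveI := hQ2'.center_nontrivial
    obtain ⟨k, hk⟩ := IsPGroup.iff_card.1 (hQ2'.to_subgroup (center _))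
    have hk0 : k ≠ 0 := by
      rintro rfl
      have := Finite.one_lt_card (α := center (Q ⧸ V.subgroupOf Q))
      rw [hk] at this; simp at this
    obtain ⟨⟨xb, hxbc⟩, hxb⟩ := exists_prime_orderOf_dvd_card' (G := center (Q ⧸ V.subgroupOf Q)) 2
      (hk ▸ dvd_pow_self 2 hk0)
    rw [Subgroup.orderOf_mk] at hxb
    obtain ⟨⟨x, hx⟩, rfl⟩ := QuotientGroup.mk'_surjective (V.subgroupOf Q) xb
    have hxV : x ∉ V := fun h =>
      invol_ne_one hxb ((QuotientGroup.eq_one_iff _).2 (mem_subgroupOf.2 h))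
    have hxx : x * x ∈ V := by
      have h1 := invol_mul_self hxb
      rw [← map_mul] at h1
      exact mem_subgroupOf.1 ((QuotientGroup.eq_one_iff _).1 h1)
    have hx2 := hnofour x hx hxx
    obtain ⟨r, hr, hrx⟩ : ∃ r ∈ Q, ¬ Commute x r := by
      by_contra hno
      push Not at hno
      exact hxV ⟨hx, hx2, hno⟩
    set e := x * r * x⁻¹ * r⁻¹ with hedef
    have heV : e ∈ V := by
      have h1 : π ⟨r, hr⟩ * π ⟨x, hx⟩ = π ⟨x, hx⟩ * π ⟨r, hr⟩ := mem_center_iff.1 hxbc (π ⟨r, hr⟩)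
      have h2 : π (⟨x, hx⟩ * ⟨r, hr⟩ * ⟨x, hx⟩⁻¹ * ⟨r, hr⟩⁻¹) = 1 := by
        rw [map_mul, map_mul, map_mul, map_inv, map_inv, ← h1]; group
      exact mem_subgroupOf.1 ((QuotientGroup.eq_one_iff _).1 h2)
    have he1 : e ≠ 1 := fun h => hrx (mul_inv_eq_iff_eq_mul.1 (mul_inv_eq_one.1 h))
    have hxi : x⁻¹ = x := inv_eq_of_mul_eq_one_right hx2
    by_cases hrr : r * r = 1
    · have h1 : x * r * (x * r) = e := by
        rw [hedef, hxi, inv_eq_of_mul_eq_one_right hrr]; group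
      exact he1 (h1 ▸ hnofour (x * r) (mul_mem hx hr) (h1.symm ▸ heV))
    · obtain ⟨j, hj⟩ := IsPGroup.iff_orderOf.1 hQ2 ⟨r, hr⟩
      rw [Subgroup.orderOf_mk] at hj
      obtain ⟨u, hu, hu2, hu1⟩ := exists_invol_sq hj hrr
      have hxr : x * r * x⁻¹ = e * r := by rw [hedef]; group
      have hx2r : Commute x (r * r) := by
        refine mul_inv_eq_iff_eq_mul.1 ?_
        calc x * (r * r) * x⁻¹ = (x * r * x⁻¹) * (x * r * x⁻¹) := by group
          _ = e * (r * e) * r := by rw [hxr]; group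
          _ = e * (e * r) * r := by rw [(heV.2.2 r hr).eq]
          _ = r * r := by rw [← mul_assoc e e, heV.2.1, one_mul]
      have hxu : Commute x u := commute_of_mem_zpowers hu2 hx2r
      have hemem : e ∈ zpowers r :=
        mul_mem ((hG.conj_mem_iff hu hu1).2 hxu) (inv_mem (mem_zpowers r))
      have heu : e = u :=
        (invol_unique_zpowers (hVo e heV he1) hemem).2.trans (invol_unique_zpowers hu hu1).2.symm
      obtain ⟨i, hi⟩ := mem_zpowers_iff.1 hu2
      have h1 : r ^ i * r ^ i = e := by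
        rw [heu, ← hi, ← ((Commute.refl r).mul_zpow i)]
      exact he1 (h1 ▸ hnofour (r ^ i) (zpow_mem hr i) (h1.symm ▸ heV))
  -- a Sylow subgroup with a four group as centraliser
  have hCV : ∀ a, Commute a c → Commute a q → a ∈ V := by
    intro a hac haq
    have hall : ∀ v ∈ V, Commute a v := by
      intro v hv
      rcases hVall v hv with e | e | e | e <;> subst e
      exacts [Commute.one_right a, hac, haq, haq.mul_right hac]
    exact hQV (hker a (hcent a fun b hb => hall b (hQV hb)) hall)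
  have hp : IsPGroup 2 (V ⊔ zpowers s : Subgroup L) := by
    refine (hCIT c hco).to_le (sup_le (fun a ha => mem_cent.2 (hVcomm a ha c hcV))
      (zpowers_le.2 (mem_cent.2 hsc)))
  obtain ⟨T, hT⟩ := hp.exists_le_sylow
  have hVT : V ≤ (T : Subgroup L) := le_sup_left.trans hT
  have hsT : s ∈ (T : Subgroup L) := hT (mem_sup_right (mem_zpowers s))
  obtain ⟨z, hzT, hz, hzc⟩ := exists_central_invol_sylow T (hVT hcV) hc1
  have hzV : z ∈ V := hCV z (hzc c (hVT hcV)).symm (hzc q (hVT hqV)).symm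
  have hzeq : z = c := by
    rcases hfix z hzV (hzc s hsT) with e | e
    · exact absurd e (invol_ne_one hz)
    · exact e
  subst hzeq
  refine of_four hG hna (hVT hqV) hzT (hVo q hqV hq1) hz (Ne.symm hqc) hzc
    ⟨s, hsT, fun h => ?_⟩ fun a ha haq => ?_
  · exact hnc q hqV hq1 hqc (by rw [h.eq, mul_inv_cancel_right])
  · rcases hVall a (hCV a (hzc a ha) haq) with e | e | e | e
    · exact Or.inl e
    · exact Or.inr (Or.inr (Or.inl e))
    · exact Or.inr (Or.inl e)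
    · exact Or.inr (Or.inr (Or.inr e))

end Cfsg.Agent.Lib.NormCyclic64
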