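import Cfsg.Agent.Lib.NormCyclic64.TICase
import Cfsg.Agent.Lib.NormCyclic64.MeetCase
import Cfsg.Agent.Lib.Spectrum.SL25Recognition
import Cfsg.Agent.Lib.Linear.SmallIso.PSL5
import Cfsg.Agent.Lib.Linear.Order
import Cfsg.Agent.Lib.Cores.MinNormal
import Cfsg.Agent.Lib.PrimePowerClass.Radical
import Cfsg.Agent.S0205

/-!
Simple groups with the normaliser condition, and the socle of a group with this condition and no
non-trivial solvable normal subgroup.
-/

set_option autoImplicit false
set_option linter.style.haveILetI false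
set_option linter.unusedSectionVars false

namespace Cfsg.Agent.Lib.NormCyclic64

open Subgroup
open Cfsg.Agent.Lib.Involutions.Basic

universe u

variable {G : Type u} [Group G] [Finite G]

theorem exists_invol_of_not_solvable {H : Subgroup G} (h : ¬ Group.IsSolvable H) :
    ∃ a ∈ H, orderOf a = 2 := by
  haveI : Fact (Nat.Prime 2) := ⟨Nat.prime_two⟩
  obtain ⟨a, ha⟩ := exists_prime_orderOf_dvd_card' (G := H) 2 (by
    by_contra h2
    exact h (Cfsg.Agent.S0205.result (Nat.not_even_iff_odd.1 fun he => h2 he.two_dvd)))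
  exact ⟨a, a.2, by rwa [Subgroup.orderOf_coe]⟩

/-- A subgroup centralised by an involution is solvable. -/
theorem Cyc.isSolvable_of_commute_invol (hG : Cyc G) {a : G} (ha : orderOf a = 2) (B : Subgroup G)
    (hB : ∀ b ∈ B, Commute b a) : Group.IsSolvable B := by
  haveI : Fact (Nat.Prime 2) := ⟨Nat.prime_two⟩
  haveI : Group.IsSolvable (Cfsg.oddCore B) :=
    Cfsg.Agent.S0205.result (Nat.coprime_two_right.1 (Lib.Cores.pPrimeCore_coprime 2))
  have hmem : ∀ b : B, Odd (orderOf b) → b ∈ Cfsg.oddCore B := by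
    intro b hb
    haveI : (zpowers b).Normal := by
      refine normalizer_eq_top_iff.1 (eq_top_iff.2 fun c _ => mem_norm_zpowers.2 ?_)
      rw [← mem_zpowers_map_iff B.subtype B.subtype_injective]
      exact hG.odd_normal ha (hB b b.2) (by rwa [← Subgroup.orderOf_coe] at hb) (hB c c.2)
    refine Lib.Cores.le_pPrimeCore ?_ (mem_zpowers b)
    rw [Nat.card_zpowers]; exact Nat.coprime_two_right.2 hb
  have hq : IsPGroup 2 (B ⧸ Cfsg.oddCore B) := by
    intro x
    obtain ⟨b, rfl⟩ := QuotientGroup.mk'_surjective (Cfsg.oddCore B) x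
    refine ⟨(orderOf b).factorization 2, ?_⟩
    rw [← map_pow, QuotientGroup.mk'_apply, QuotientGroup.eq_one_iff]
    refine hmem _ ?_
    rw [orderOf_pow_of_dvd (by positivity) (Nat.ordProj_dvd _ _)]
    exact Nat.odd_iff.2 (Nat.two_dvd_ne_zero.1
      (Nat.not_dvd_ordCompl Nat.prime_two (orderOf_pos b).ne'))
  haveI := hq.isNilpotent
  exact Group.isSolvable_of_ker_le_range (Cfsg.oddCore B).subtype
    (QuotientGroup.mk' (Cfsg.oddCore B)) (by rw [QuotientGroup.ker_mk', Subgroup.range_subtype])

/-- Two element-wise commuting non-solvable subgroups cannot exist. -/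
theorem Cyc.solvable_of_commute (hG : Cyc G) (A B : Subgroup G)
    (hc : ∀ a ∈ A, ∀ b ∈ B, Commute a b) (hA : ¬ Group.IsSolvable A) : Group.IsSolvable B := by
  obtain ⟨a, ha, hao⟩ := exists_invol_of_not_solvable hA
  exact hG.isSolvable_of_commute_invol hao B fun b hb => (hc a ha b hb).symm

/-- The socle is simple with trivial centraliser. -/
theorem exists_socle (hG : Cyc G) [Nontrivial G]
    (hss : ∀ N : Subgroup G, N.Normal → Group.IsSolvable ↥N → N = ⊥) :
    ∃ S : Subgroup G, S.Normal ∧ IsSimpleGroup S ∧ ¬ IsMulCommutative S ∧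
      Subgroup.centralizer (S : Set G) = ⊥ := by
  obtain ⟨S, hSn, hS1, hmin⟩ := Cores.MinNormal.exists_minimal (G := G)
  haveI := hSn
  have hSns : ¬ Group.IsSolvable S := fun hs => hS1 (hss S hSn hs)
  have hC : Subgroup.centralizer (S : Set G) = ⊥ :=
    hss _ Subgroup.normal_centralizer (hG.solvable_of_commute S _
      (fun a ha b hb => (Subgroup.mem_centralizer_iff.1 hb) a ha) hSns)
  refine ⟨S, hSn, ?_,
    fun hm => hSns (haveI := hm; Group.isSolvable_of_comm fun a b => mul_comm' a b), hC⟩
  haveI : Nontrivial S := (Subgroup.nontrivial_iff_ne_bot S).2 hS1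
  refine { eq_bot_or_eq_top_of_normal := fun H hH => ?_ }
  haveI := hH
  by_contra hcon
  push Not at hcon
  obtain ⟨M, hMn, hMH, hM1, hMmin⟩ := Cores.MinNormal.exists_minimal_le hcon.1
  haveI := hMn
  have hMns : ¬ Group.IsSolvable M := by
    intro hs
    refine hSns (?_ : Group.IsSolvable S)
    haveI := PrimePowerClass.Radical.solRad_characteristic (G := S)
    have hR : ((PrimePowerClass.Radical.solRad S).map S.subtype).Normal :=
      ConjAct.normal_of_characteristic_of_normal
    rcases hmin _ hR (Subgroup.map_subtype_le _) with hb | ht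
    · exact absurd (le_bot_iff.1 ((PrimePowerClass.Radical.le_solRad hs).trans
        ((Subgroup.map_eq_bot_iff_of_injective _ S.subtype_injective).1 hb).le)) hM1
    · haveI := PrimePowerClass.Radical.solRad_isSolvable (G := S)
      have := Group.isSolvable_of_surjective
        (S.subtype.subgroupMap_surjective (PrimePowerClass.Radical.solRad S))
      rwa [ht] at this
  haveI : (Subgroup.centralizer (M : Set S)).Normal := Subgroup.normal_centralizer
  have hCM : Group.IsSolvable (Subgroup.centralizer (M : Set S)) :=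
    (hG.subgroup S).solvable_of_commute M _
      (fun a ha b hb => (Subgroup.mem_centralizer_iff.1 hb) a ha) hMns
  have hinv : ∀ g : G, M.map (MulAut.conjNormal g : MulAut S).toMonoidHom = M := by
    intro g
    set M' := M.map (MulAut.conjNormal g : MulAut S).toMonoidHom
    haveI : M'.Normal := Subgroup.Normal.map hMn _ (MulAut.conjNormal g : MulAut S).surjective
    have hMM : M' ⊓ M ≠ ⊥ := fun hb => by
      refine hMns ?_
      have hle : M' ≤ Subgroup.centralizer (M : Set S) := fun x hx =>
        Subgroup.mem_centralizer_iff.2 fun y hy => Subgroup.commute_of_normal_of_disjoint M M' hMn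
          ‹_› (disjoint_iff.2 (inf_comm M M' ▸ hb)) y x hy hx
      haveI := hCM
      exact Group.isSolvable_of_isSolvable_injective
        (f := (Subgroup.inclusion hle).comp
          (M.equivMapOfInjective _ (MulAut.conjNormal g : MulAut S).injective).toMonoidHom)
        ((Subgroup.inclusion_injective hle).comp (MulEquiv.injective _))
    have heq : M' ⊓ M = M := (hMmin _ inferInstance inf_le_right).resolve_left hMM
    exact (Subgroup.eq_of_le_of_card_ge
      (show M ≤ M' from fun x hx => (heq.symm ▸ hx : x ∈ M' ⊓ M).1)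
      (Subgroup.card_map_of_injective (MulAut.conjNormal g : MulAut S).injective).le).symm
  have hMG : (M.map S.subtype).Normal := ⟨fun x hx g => by
    obtain ⟨m, hm, rfl⟩ := hx
    exact ⟨(MulAut.conjNormal g : MulAut S) m, hinv g ▸ ⟨m, hm, rfl⟩,
      MulAut.conjNormal_apply g m⟩⟩
  rcases hmin _ hMG (Subgroup.map_subtype_le _) with hb | ht
  · exact hM1 ((Subgroup.map_eq_bot_iff_of_injective _ S.subtype_injective).1 hb)
  · refine hcon.2 (top_le_iff.1 (le_trans ?_ hMH))
    intro x _
    obtain ⟨m, hm, hmx⟩ : (x : G) ∈ M.map S.subtype := ht.symm ▸ x.2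
    exact Subtype.ext hmx ▸ hm

/-- Simple groups with the normaliser condition. -/
theorem simple_case {L : Type u} [Group L] [Finite L] [IsSimpleGroup L] (hG : Cyc L)
    (hna : ¬ IsMulCommutative L) :
    ∃ (F : Type) (_ : Field F) (_ : Fintype F), 3 < Fintype.card F ∧ Fintype.card F ≠ 4 ∧
      Nonempty (L ≃* Matrix.ProjectiveSpecialLinearGroup (Fin 2) F) := by
  classical
  have hns : ¬ Group.IsSolvable L := fun hs => hna <| by
    haveI := hs
    exact ⟨⟨fun a b => (IsSimpleGroup.comm_iff_isSolvable (G := L)).2 hs a b⟩⟩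
  have heven : Even (Nat.card L) := by
    by_contra h
    exact hns (Cfsg.Agent.S0205.result (Nat.not_even_iff_odd.1 h))
  have h60 : 60 ≤ Nat.card L := by
    by_contra h
    exact hns (Spectrum.isSolvable_of_card_lt_sixty _ rfl (not_le.1 h))
  have hfinal : OddPSL L ∨ EvenPSL L := by
    by_cases hB : ∃ t : L, orderOf t = 2 ∧ oddD t ≠ ⊥
    · obtain ⟨t, ht, hD⟩ := hB
      obtain ⟨y0, hy0, hy01⟩ := (oddD t).bot_or_exists_ne_one.resolve_left hD
      exact Or.inl (b_case hG hna ht hy0 hy01)
    push Not at hB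
    have hCIT : ∀ t : L, orderOf t = 2 → IsPGroup 2 (centralizer ({t} : Set L)) := fun t ht =>
      isPGroup_cent_of_oddD hG ht (hB t ht)
    by_cases hTI : ∀ P Q : Sylow 2 L, P ≠ Q → (P : Subgroup L) ⊓ (Q : Subgroup L) = ⊥
    · exact Or.inr (ti_case hG hna hCIT heven hTI)
    · obtain ⟨N, Q, s, y, hc⟩ := exists_localConf hTI
      exact Or.inl (meet_case hG hna hCIT hc)
  rcases hfinal with ⟨F, fF, ffF, hodd, ⟨e⟩⟩ | ⟨F, fF, ffF, hev, h4, ⟨e⟩⟩
  · refine ⟨F, fF, ffF, ?_, fun h => ?_, ⟨e⟩⟩
    · have h1 := Lib.Linear.two_mul_card_PSL_two_of_odd (F := F) hodd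
      rw [← Nat.card_congr e.toEquiv] at h1
      by_contra hle
      push Not at hle
      have h2 : 2 ≤ Fintype.card F := Fintype.one_lt_card
      interval_cases (Fintype.card F) <;> omega
    · rw [h] at hodd; exact absurd hodd (by decide)
  · by_cases h : Fintype.card F = 4
    · have h1 := Lib.Linear.card_PSL_two_of_even (F := F) hev
      rw [← Nat.card_congr e.toEquiv, h] at h1
      haveI : Fact (Nat.Prime 5) := ⟨by norm_num⟩
      obtain ⟨e1⟩ := Cfsg.Agent.S0494.result (G := L) h1
      obtain ⟨e2⟩ := Linear.SmallIso.nonempty_psl_two_five (F := ZMod 5) (ZMod.card 5)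
      exact ⟨ZMod 5, inferInstance, inferInstance, by rw [ZMod.card]; norm_num,
        by rw [ZMod.card]; norm_num, ⟨e1.trans e2.symm⟩⟩
    · exact ⟨F, fF, ffF, by omega, h, ⟨e⟩⟩

end Cfsg.Agent.Lib.NormCyclic64
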