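import Cfsg.Agent.Lib.NormCyclic64.BCase
import Cfsg.Agent.Lib.BenderSuzuki.Zassenhaus
import Cfsg.Agent.Lib.Zassenhaus.RegKernel

/-!
All involution centralisers are `2`-groups and the Sylow `2`-subgroups intersect trivially.
-/

set_option autoImplicit false
set_option linter.style.haveILetI false
set_option linter.unusedSectionVars false

namespace Cfsg.Agent.Lib.NormCyclic64

open Subgroup
open Cfsg.Agent.Lib.Involutions.Basic
open scoped Pointwise

universe u

variable {L : Type u} [Group L] [Finite L]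

/-- The conclusion in characteristic two. -/
def EvenPSL (L : Type u) [Group L] : Prop :=
  ∃ (F : Type) (_ : Field F) (_ : Fintype F), Even (Fintype.card F) ∧ 4 ≤ Fintype.card F ∧
    Nonempty (L ≃* Matrix.ProjectiveSpecialLinearGroup (Fin 2) F)

variable [IsSimpleGroup L]

theorem ti_case (hG : Cyc L) (hna : ¬ IsMulCommutative L)
    (hCIT : ∀ t : L, orderOf t = 2 → IsPGroup 2 (centralizer ({t} : Set L)))
    (heven : Even (Nat.card L))
    (hTI : ∀ P Q : Sylow 2 L, P ≠ Q → (P : Subgroup L) ⊓ (Q : Subgroup L) = ⊥) : EvenPSL L := by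
  classical
  haveI : Fact (Nat.Prime 2) := ⟨Nat.prime_two⟩
  obtain ⟨z0, hz0⟩ := exists_invol (G := L) heven
  have hp0 : IsPGroup 2 (zpowers z0) :=
    IsPGroup.of_card (n := 1) (by rw [Nat.card_zpowers, hz0, pow_one])
  obtain ⟨T, hT⟩ := hp0.exists_le_sylow
  obtain ⟨z, hzT, hz, hzc⟩ := exists_central_invol_sylow T (hT (mem_zpowers z0)) (invol_ne_one hz0)
  set N := normalizer ((T : Subgroup L) : Set L) with hN
  have heq : ∀ P : Sylow 2 L, ∀ a, a ∈ (T : Subgroup L) → a ∈ (P : Subgroup L) → a ≠ 1 → P = T := by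
    intro P a haT haP ha1
    by_contra hne
    have := hTI P T hne
    have hm : a ∈ (P : Subgroup L) ⊓ (T : Subgroup L) := ⟨haP, haT⟩
    rw [this, mem_bot] at hm
    exact ha1 hm
  have hcentw : ∀ w ∈ (T : Subgroup L), orderOf w = 2 →
      centralizer ({w} : Set L) ≤ (T : Subgroup L) := by
    intro w hw hwo
    obtain ⟨P, hP⟩ := (hCIT w hwo).exists_le_sylow
    rw [← heq P w hw (hP (mem_cent.2 (Commute.refl w))) (invol_ne_one hwo)]
    exact hP
  have heven' : Even (Nat.card (T : Subgroup L)) :=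
    even_iff_two_dvd.2 (by
      have := Subgroup.orderOf_dvd_natCard (T : Subgroup L) hzT
      rwa [hz] at this)
  have hE : Cfsg.Agent.Lib.CNGroup.EvenTI.EvenTI (T : Subgroup L) := by
    refine ⟨T.2.isNilpotent, heven', ?_, ?_, ?_⟩
    · intro x hx hx1 g hg
      refine Sylow.smul_eq_iff_mem_normalizer.1 (heq _ (g * x * g⁻¹) hg ?_ (conj_ne_one hx1))
      rw [Sylow.coe_subgroup_smul]
      simpa using smul_mem_pointwise_smul (a := MulAut.conj g) x (T : Subgroup L) hx
    · intro x hx hx1 c hc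
      obtain ⟨k, hk⟩ := exists_orderOf_two_pow hx
      have he : Even (orderOf x) := by
        rcases k with _ | k
        · exact absurd (orderOf_eq_one_iff.1 hk) hx1
        · rw [hk]; simp [Nat.even_pow]
      exact hcentw _ (pow_mem hx _) (orderOf_pow_half he)
        (mem_cent.2 ((mem_cent.1 hc).pow_right _))
    · intro p hp hd
      obtain ⟨k, hk⟩ := IsPGroup.iff_card.1 T.2
      have : p = 2 := (Nat.prime_dvd_prime_iff_eq hp Nat.prime_two).1 (hp.dvd_of_dvd_pow (hk ▸ hd))
      subst this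
      exact ⟨T, le_rfl⟩
  have hNtop : N ≠ ⊤ := by
    intro e
    rcases (normalizer_eq_top_iff.1 e : (T : Subgroup L).Normal).eq_bot_or_eq_top with hb | hb
    · rw [hb, mem_bot] at hzT; exact invol_ne_one hz hzT
    · obtain ⟨g, hg⟩ := not_forall_commute hna (invol_ne_one hz)
      exact hg (hzc g (hb ▸ mem_top g))
  have hSE := Cfsg.Agent.Lib.CNGroup.EvenTI.stronglyEmbedded hE hNtop
  -- all involutions of `T` are central and conjugate under the normaliser
  have htrans : ∀ v ∈ (T : Subgroup L), orderOf v = 2 → ∃ g ∈ N, g * z * g⁻¹ = v := by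
    intro v hv hvo
    obtain ⟨g, hg⟩ :=
      isConj_iff.1 (Involutions.StronglyEmbedded.isConj_involutions hSE hz hvo)
    exact ⟨g, Involutions.StronglyEmbedded.mem_of_conj_mem hSE hz (le_normalizer hzT)
      (hg ▸ le_normalizer hv), hg⟩
  have hcen : ∀ v ∈ (T : Subgroup L), orderOf v = 2 → ∀ a ∈ (T : Subgroup L), Commute a v := by
    intro v hv hvo a ha
    obtain ⟨g, hg, rfl⟩ := htrans v hv hvo
    have h1 : g⁻¹ * a * g ∈ (T : Subgroup L) :=
      (mem_normalizer_iff.1 hg _).2 (by simpa [mul_assoc] using ha)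
    have := (hzc _ h1).map (MulAut.conj g).toMonoidHom
    simpa [mul_assoc] using this
  obtain ⟨z', hz'T, hz', hzz'⟩ : ∃ v ∈ (T : Subgroup L), orderOf v = 2 ∧ v ≠ z := by
    by_contra hno
    push Not at hno
    exact zstar_false hna T hz hzT fun g hg => hno _ hg ((orderOf_conj_eq g z).trans hz)
  -- different involutions
  have hdiff : ∀ x ∈ (T : Subgroup L), ∀ y ∈ (T : Subgroup L), ∀ w1 ∈ zpowers x, ∀ w2 ∈ zpowers y,
      orderOf w1 = 2 → orderOf w2 = 2 → w1 ≠ w2 → Commute x y := by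
    intro x hx y hy w1 hw1 w2 hw2 ho1 ho2 hne
    refine commute_of_mutual ((hG.conj_mem_iff ho2 hw2).2
        (hcen w2 (zpowers_le.2 hy hw2) ho2 x hx))
      ((hG.conj_mem_iff ho1 hw1).2 (hcen w1 (zpowers_le.2 hx hw1) ho1 y hy)) ?_
    intro k hky hkx
    by_contra hk1
    obtain ⟨j, hj⟩ := exists_orderOf_two_pow (zpowers_le.2 hx hkx)
    have he : Even (orderOf k) := by
      rcases j with _ | j
      · exact absurd (orderOf_eq_one_iff.1 hj) hk1
      · rw [hj]; simp [Nat.even_pow]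
    have h1 := npow_mem_zpowers k (orderOf k / 2)
    have e1 := (invol_unique_zpowers ho1 hw1).2.trans
      (invol_unique_zpowers (orderOf_pow_half he) (zpowers_le.2 hkx h1)).2.symm
    have e2 := (invol_unique_zpowers ho2 hw2).2.trans
      (invol_unique_zpowers (orderOf_pow_half he) (zpowers_le.2 hky h1)).2.symm
    exact hne (e1.trans e2.symm)
  have hab : ∀ x ∈ (T : Subgroup L), ∀ y ∈ (T : Subgroup L), x * y = y * x := by
    intro x hx y hy
    by_cases hxx : x * x = 1
    · by_cases hx1 : x = 1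
      · simp [hx1]
      exact (hcen x hx (invol_iff.2 ⟨hxx, hx1⟩) y hy).eq.symm
    by_cases hyy : y * y = 1
    · by_cases hy1 : y = 1
      · simp [hy1]
      exact (hcen y hy (invol_iff.2 ⟨hyy, hy1⟩) x hx).eq
    obtain ⟨i, hi⟩ := exists_orderOf_two_pow hx
    obtain ⟨j, hj⟩ := exists_orderOf_two_pow hy
    obtain ⟨w1, ho1, -, hw1⟩ := exists_invol_sq hi hxx
    obtain ⟨w2, ho2, -, hw2⟩ := exists_invol_sq hj hyy
    by_cases hne : w1 = w2
    swap
    · exact (hdiff x hx y hy w1 hw1 w2 hw2 ho1 ho2 hne).eq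
    subst hne
    obtain ⟨v, hvT, hvo, hvne⟩ : ∃ v ∈ (T : Subgroup L), orderOf v = 2 ∧ v ≠ w1 := by
      by_cases hzw : z = w1
      · exact ⟨z', hz'T, hz', hzw ▸ hzz'⟩
      · exact ⟨z, hzT, hz, hzw⟩
    obtain ⟨g, hg, hgv⟩ := htrans v hvT hvo
    obtain ⟨g', hg', hgw⟩ := htrans w1 (zpowers_le.2 hx hw1) ho1
    set h := g * g'⁻¹ with hhdef
    have hhN : h ∈ N := mul_mem hg (inv_mem hg')
    have hhw : h * w1 * h⁻¹ = v := by rw [← hgw, ← hgv, hhdef]; group
    set y' := h * y * h⁻¹ with hy'def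
    have hy'T : y' ∈ (T : Subgroup L) := (mem_normalizer_iff.1 hhN y).1 hy
    have hwy' : v ∈ zpowers y' := by
      obtain ⟨k, hk⟩ := mem_zpowers_iff.1 hw2
      exact mem_zpowers_iff.2 ⟨k, by rw [hy'def, conj_zpow, hk, hhw]⟩
    have hc1 : Commute x y' := hdiff x hx y' hy'T w1 hw1 v hwy' ho1 hvo (Ne.symm hvne)
    have hc2 : Commute y y' := hdiff y hy y' hy'T w1 hw2 v hwy' ho1 hvo (Ne.symm hvne)
    have hw' : w1 = y ^ (orderOf y / 2) := (invol_unique_zpowers ho1 hw2).2
    have hv' : v = y' ^ (orderOf y / 2) := by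
      rw [hy'def, conj_pow, ← hw', hhw]
    have hprod : (y * y') ^ (orderOf y / 2) = w1 * v := by rw [hc2.mul_pow, ← hw', ← hv']
    have hpo : orderOf (w1 * v) = 2 := by
      refine invol_iff.2 ⟨?_, fun e => hvne ?_⟩
      · have hc : Commute v w1 := hcen w1 (zpowers_le.2 hx hw1) ho1 v hvT
        calc w1 * v * (w1 * v) = w1 * (v * w1) * v := by group
          _ = w1 * (w1 * v) * v := by rw [hc.eq]
          _ = (w1 * w1) * (v * v) := by group
          _ = 1 := by rw [invol_mul_self ho1, invol_mul_self hvo, one_mul]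
      · rw [← invol_inv ho1]; exact (inv_eq_of_mul_eq_one_right e).symm
    have hc3 : Commute x (y * y') :=
      hdiff x hx (y * y') (mul_mem hy hy'T) w1 hw1 (w1 * v)
        (hprod ▸ npow_mem_zpowers _ _) ho1 hpo
        (fun e => invol_ne_one hvo (mul_eq_left.1 e.symm))
    have := hc3.mul_right hc1.inv_right
    rw [mul_inv_cancel_right] at this
    exact this.eq
  obtain ⟨a, b, hne, hZ, hU⟩ := Cfsg.Agent.Lib.CNGroup.EvenTI.zassenhaus hE hNtop
  have hcard := Zassenhaus.RegKernel.card_add_one hne hU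
  have hodd : Odd (Nat.card (L ⧸ N)) := by
    rw [← hcard]; exact heven'.add_one
  have hU' := Zassenhaus.RegKernel.toAbKernel hZ hne hU hab
  have hd := Zassenhaus.card_pair_of_odd hZ hne hU' hodd
  obtain ⟨h3, -⟩ := Zassenhaus.sharply_of_card hZ hne hd
  obtain ⟨F, fF, ffF, ⟨k, hk⟩, hFΩ, hiso⟩ :=
    BenderSuzuki.psl_of_sharp_card hZ hne hodd h3
  refine ⟨F, fF, ffF, ?_, ?_, hiso⟩
  · rw [Nat.even_iff]
    rw [← hcard] at hFΩ
    have := Nat.even_iff.1 heven'
    omega
  · obtain ⟨j, hj⟩ := IsPGroup.iff_card.1 T.2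
    have h2 : 2 < Nat.card (T : Subgroup L) := by
      have hsub : ({1, z, z'} : Set L) ⊆ (T : Subgroup L) := by
        intro g hg
        simp only [Set.mem_insert_iff, Set.mem_singleton_iff] at hg
        rcases hg with rfl | rfl | rfl
        exacts [one_mem _, hzT, hz'T]
      have := Set.ncard_le_ncard hsub (Set.toFinite _)
      rw [Set.ncard_eq_three.2 ⟨1, z, z', (invol_ne_one hz).symm, (invol_ne_one hz').symm,
        Ne.symm hzz', rfl⟩, ← Nat.card_coe_set_eq] at this
      exact this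
    have h4 : 4 ≤ Nat.card (T : Subgroup L) := by
      rw [hj] at h2 ⊢
      rcases Nat.lt_or_ge j 2 with h | h
      · have := Nat.pow_le_pow_right (show 0 < 2 by norm_num) (show j ≤ 1 by omega); omega
      · exact (show 4 = 2 ^ 2 by norm_num) ▸ Nat.pow_le_pow_right (by norm_num) h
    rw [← hcard] at hFΩ
    omega

end Cfsg.Agent.Lib.NormCyclic64
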