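import Cfsg.Agent.Lib.NormCyclic64.BCase
import Cfsg.Agent.Lib.HalfTransitive.MaxClass
import Cfsg.Agent.Lib.PGroups.Omega

/-!
A Sylow subgroup in which a non-central involution has a four group as centraliser.
-/

set_option autoImplicit false
set_option linter.style.haveILetI false
set_option linter.unusedSectionVars false

namespace Cfsg.Agent.Lib.NormCyclic64

open Subgroup
open Cfsg.Agent.Lib.Involutions.Basic

universe u

/-- A `2`-group with a non-central involution whose centraliser is a four group, and with the
normaliser condition at the central involution, is dihedral. -/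
theorem dihedral_of_four {K : Type u} [Group K] [Finite K] (hK : IsPGroup 2 K) {t z : K}
    (ht : orderOf t = 2) (hz : orderOf z = 2) (hne : z ≠ t) (hzc : ∀ a, Commute a z)
    (htc : ∃ a, ¬ Commute a t)
    (hC : ∀ a, Commute a t → a = 1 ∨ a = t ∨ a = z ∨ a = t * z)
    (hnorm : ∀ x : K, z ∈ zpowers x → ∀ a, a * x * a⁻¹ ∈ zpowers x) :
    ∃ n, 2 ≤ n ∧ Nonempty (K ≃* DihedralGroup n) := by
  classical
  haveI : Fact (Nat.Prime 2) := ⟨Nat.prime_two⟩
  have htt := invol_mul_self ht
  have hzz := invol_mul_self hz
  have hti := invol_inv ht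
  by_cases hno : ∃ E : Subgroup K, E.Normal ∧ Cfsg.IsElementaryAbelian 2 E ∧ Nat.card E = 2 ^ 2
  · -- order eight
    obtain ⟨E, hEn, hEe, hEc⟩ := hno
    obtain ⟨hEcomm, hEsq⟩ := Lib.PGroups.elemAb_iff.1 hEe
    -- the central involution lies in `E`
    by_cases htE : t ∈ E
    · -- every element moves `t` to `t * z`
      have hEle : ∀ e ∈ E, e = 1 ∨ e = t ∨ e = z ∨ e = t * z := fun e he =>
        hC e (hEcomm e he t htE)
      have hconj : ∀ x, x * t * x⁻¹ = t ∨ x * t * x⁻¹ = t * z := by
        intro x
        rcases hEle _ (hEn.conj_mem t htE x) with e | e | e | e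
        · exact absurd e (invol_ne_one ((orderOf_conj_eq x t).trans ht))
        · exact Or.inl e
        · exfalso
          have h1 : t = x⁻¹ * z * x := by rw [← e]; group
          rw [mul_assoc, ← (hzc x).eq, inv_mul_cancel_left] at h1
          exact hne h1.symm
        · exact Or.inr e
      obtain ⟨x, hx⟩ := htc
      have hx1 : x * t * x⁻¹ = t * z :=
        (hconj x).resolve_left fun h => hx (mul_inv_eq_iff_eq_mul.1 h)
      -- an element of order four inverted by `t`
      have key : ∀ a : K, a * a = z → t * a * t⁻¹ = a⁻¹ → a * t * a⁻¹ = t * z →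
          ∃ n, 2 ≤ n ∧ Nonempty (K ≃* DihedralGroup n) := by
        intro a haa hinv hat
        have ha4 : orderOf a = 4 := orderOf_eq_prime_pow (p := 2) (n := 1)
          (by rw [pow_one, pow_two, haa]; exact invol_ne_one hz)
          (by rw [show 2 ^ (1 + 1) = 2 * 2 by norm_num, pow_mul, pow_two, pow_two, haa, hzz])
        have hat' : ¬ Commute a t := fun h => invol_ne_one hz (by
          rw [h.eq, mul_inv_cancel_right] at hat
          exact mul_eq_left.1 hat.symm)
        have htna : t ∉ zpowers a := fun h => hat' (commute_of_mem_zpowers h (Commute.refl a))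
        have hset : (Set.univ : Set K) ⊆ {1, t, z, t * z, a, a * t, a * z, a * (t * z)} := by
          intro g _
          rcases hconj g with h | h
          · rcases hC g (mul_inv_eq_iff_eq_mul.1 h) with e | e | e | e <;> simp [e]
          · have h2 : (a⁻¹ * g) * t * (a⁻¹ * g)⁻¹ = t := by
              calc (a⁻¹ * g) * t * (a⁻¹ * g)⁻¹ = a⁻¹ * (g * t * g⁻¹) * a := by group
                _ = a⁻¹ * (a * t * a⁻¹) * a := by rw [h, hat]
                _ = t := by group
            rcases hC _ (mul_inv_eq_iff_eq_mul.1 h2) with e | e | e | e <;>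
              rw [inv_mul_eq_iff_eq_mul] at e <;> simp [e]
        have hle : Nat.card K ≤ 8 := by
          rw [← Set.ncard_univ]
          refine (Set.ncard_le_ncard hset (Set.toFinite _)).trans ?_
          refine (Set.ncard_insert_le _ _).trans ?_
          refine Nat.succ_le_succ ((Set.ncard_insert_le _ _).trans ?_)
          refine Nat.succ_le_succ ((Set.ncard_insert_le _ _).trans ?_)
          refine Nat.succ_le_succ ((Set.ncard_insert_le _ _).trans ?_)
          refine Nat.succ_le_succ ((Set.ncard_insert_le _ _).trans ?_)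
          refine Nat.succ_le_succ ((Set.ncard_insert_le _ _).trans ?_)
          refine Nat.succ_le_succ ((Set.ncard_insert_le _ _).trans ?_)
          rw [Set.ncard_singleton]
        obtain ⟨k, hk⟩ := IsPGroup.iff_card.1 hK
        have hlt : 4 < Nat.card K := by
          have h4 : Nat.card (zpowers a) = 4 := by rw [Nat.card_zpowers, ha4]
          have hne' : zpowers a ≠ ⊤ := fun e => htna (e ▸ mem_top t)
          rw [← h4]
          exact lt_of_le_of_ne (card_le_card_group _) fun e => hne' (eq_top_of_card_eq _ e)
        have hcard : Nat.card K = 2 * 4 := by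
          rw [hk] at hle hlt ⊢
          have h3 : k = 3 := by
            rcases Nat.lt_or_ge k 3 with h | h
            · have := Nat.pow_le_pow_right (show 0 < 2 by norm_num) (show k ≤ 2 by omega); omega
            · rcases Nat.lt_or_ge k 4 with h' | h'
              · omega
              · have := Nat.pow_le_pow_right (show 0 < 2 by norm_num) h'; omega
          rw [h3]; norm_num
        haveI : NeZero (4 : ℕ) := ⟨by norm_num⟩
        exact ⟨4, by norm_num, Lib.PGroups.nonempty_dihedral_equiv (a := a) (x := t) ha4
          (by rw [pow_two, htt]) hinv htna hcard⟩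
      by_cases hxx : x * x = 1
      · refine key (x * t) ?_ ?_ ?_
        · calc x * t * (x * t) = x * t * x⁻¹ * (x * x) * t := by group
            _ = t * (z * t) := by rw [hx1, hxx, mul_one, mul_assoc]
            _ = z := by rw [← (hzc t).eq, ← mul_assoc, htt, one_mul]
        · calc t * (x * t) * t⁻¹ = t * x := by group
            _ = (x * t)⁻¹ := by rw [mul_inv_rev, hti, inv_eq_of_mul_eq_one_right hxx]
        · rw [← hx1]; group
      · have hconj2 : x * (t * z) * x⁻¹ = t := by
          rw [show x * (t * z) * x⁻¹ = (x * t * x⁻¹) * (x * z * x⁻¹) by group, hx1,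
            (hzc x).eq, mul_inv_cancel_right, mul_assoc, hzz, mul_one]
        have hxc : Commute (x * x) t := by
          refine mul_inv_eq_iff_eq_mul.1 ?_
          rw [show x * x * t * (x * x)⁻¹ = x * (x * t * x⁻¹) * x⁻¹ by group, hx1, hconj2]
        have hxz : x * x = z := by
          rcases hC _ hxc with e | e | e | e
          · exact absurd e hxx
          · exact absurd (e ▸ (Commute.refl x).mul_right (Commute.refl x)) hx
          · exact e
          · refine absurd ?_ hx
            have h1 : Commute x (t * z) := e ▸ (Commute.refl x).mul_right (Commute.refl x)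
            have := h1.mul_right (hzc x)
            rwa [mul_assoc, hzz, mul_one] at this
        refine key x hxz ?_ hx1
        have h2 : t * x * t⁻¹ = x * z := by
          calc t * x * t⁻¹ = x * (x⁻¹ * t * x) * t⁻¹ := by group
            _ = x * (x⁻¹ * (x * (t * z) * x⁻¹) * x) * t⁻¹ := by rw [hconj2]
            _ = x * (t * z) * t⁻¹ := by group
            _ = x * z := by rw [(hzc t).eq]; group
        rw [h2]
        exact eq_inv_of_mul_eq_one_right (by rw [← mul_assoc, hxz, hzz])
    · -- `E` avoids `t`
      have hEne : E ≠ ⊥ := fun e => by rw [e, card_bot] at hEc; norm_num at hEc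
      obtain ⟨c, hc, hc1⟩ := (E ⊓ center K).bot_or_exists_ne_one.resolve_left
        (Lib.PGroups.normal_inf_center_ne_bot hK E hEne)
      have hcz : c = z := by
        rcases hC c (mem_center_iff.1 hc.2 t).symm with e | e | e | e
        · exact absurd e hc1
        · exact absurd (e ▸ hc.1) htE
        · exact e
        · exfalso
          obtain ⟨a, ha⟩ := htc
          have h1 : Commute a (t * z) := e ▸ mem_center_iff.1 hc.2 a
          have := h1.mul_right (hzc a)
          rw [mul_assoc, hzz, mul_one] at this
          exact ha this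
      have hzE : z ∈ E := hcz ▸ hc.1
      obtain ⟨e, he, he1, hez⟩ : ∃ e ∈ E, e ≠ 1 ∧ e ≠ z := by
        by_contra hcon
        push Not at hcon
        have hsub : (E : Set K) ⊆ {1, z} := fun g hg => by
          by_cases h1 : g = 1
          · exact Or.inl h1
          · exact Or.inr (hcon g hg h1)
        have := (Set.ncard_le_ncard hsub (Set.toFinite _)).trans (Set.ncard_insert_le _ _)
        rw [Set.ncard_singleton, ← Nat.card_coe_set_eq] at this
        change Nat.card E ≤ 1 + 1 at this
        rw [hEc] at this; norm_num at this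
      have hee : e * e = 1 := by rw [← pow_two]; exact hEsq e he
      have het : ¬ Commute e t := by
        intro h
        rcases hC e h with e' | e' | e' | e'
        · exact he1 e'
        · exact htE (e' ▸ he)
        · exact hez e'
        · exact htE (by simpa [e', mul_assoc, hzz] using mul_mem he hzE)
      have hEall : ∀ g ∈ E, g = 1 ∨ g = z ∨ g = e ∨ g = e * z := by
        have hset : ({1, z, e, e * z} : Set K) = E := by
          refine Set.eq_of_subset_of_ncard_le ?_ ?_ (Set.toFinite _)
          · intro g hg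
            simp only [Set.mem_insert_iff, Set.mem_singleton_iff] at hg
            rcases hg with rfl | rfl | rfl | rfl
            exacts [one_mem E, hzE, he, mul_mem he hzE]
          · rw [← Nat.card_coe_set_eq]
            change Nat.card E ≤ _
            rw [hEc, Set.ncard_insert_of_notMem, Set.ncard_insert_of_notMem, Set.ncard_pair]
            · norm_num
            · intro h; exact invol_ne_one hz (mul_eq_left.1 h.symm)
            · simp only [Set.mem_insert_iff, Set.mem_singleton_iff, not_or]
              exact ⟨Ne.symm hez, fun h => he1 (mul_eq_right.1 h.symm)⟩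
            · simp only [Set.mem_insert_iff, Set.mem_singleton_iff, not_or]
              exact ⟨(invol_ne_one hz).symm, Ne.symm he1, fun h => hez (by
                rw [eq_inv_of_mul_eq_one_left h.symm, invol_inv hz])⟩
        intro g hg
        have hg' : g ∈ ({1, z, e, e * z} : Set K) := hset ▸ hg
        simpa using hg'
      have hte : t * e * t⁻¹ = e * z := by
        rcases hEall _ (hEn.conj_mem e he t) with h | h | h | h
        · exact absurd (conj_eq_one_iff.1 h) he1
        · exfalso
          refine hez ?_
          calc e = t⁻¹ * z * t := by rw [← h]; group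
            _ = z := by rw [mul_assoc, ← (hzc t).eq]; group
        · exact absurd (mul_inv_eq_iff_eq_mul.1 h).symm het
        · exact h
      have het2 : e * t * e⁻¹ = t * z := by
        calc e * t * e⁻¹ = (t * e * t⁻¹) * z * t * e⁻¹ := by rw [hte, mul_assoc e z z, hzz, mul_one]
          _ = t * e * (t⁻¹ * (z * t)) * e⁻¹ := by group
          _ = t * e * z * e⁻¹ := by rw [← (hzc t).eq]; group
          _ = t * z := by rw [mul_assoc t e z, (hzc e).eq]; group
      -- the group is `E⟨t⟩`
      set X := E ⊔ zpowers t with hXdef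
      have htX : t ∈ X := mem_sup_right (mem_zpowers t)
      have hXmem : ∀ g ∈ X, g ∈ E ∨ g * t ∈ E := by
        intro g hg
        rw [hXdef, mem_sup_of_normal_left] at hg
        obtain ⟨a, ha, b, hb, rfl⟩ := hg
        obtain ⟨j, rfl⟩ := mem_zpowers_iff.1 hb
        rcases Int.even_or_odd' j with ⟨i, rfl | rfl⟩
        · left; rwa [zpow_mul, zpow_two, htt, one_zpow, mul_one]
        · right; rwa [zpow_add, zpow_mul, zpow_two, htt, one_zpow, one_mul, zpow_one, mul_assoc,
            htt, mul_one]
      have hXtop : X = ⊤ := by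
        by_contra hne'
        haveI : Group.IsNilpotent K := hK.isNilpotent
        obtain ⟨n, hnN, hnX⟩ := SetLike.exists_of_lt
          (Group.normalizerCondition_of_isNilpotent X (lt_top_iff_ne_top.2 hne'))
        refine hnX ?_
        set g := n * t * n⁻¹ with hg
        have hgX : g ∈ X := (mem_normalizer_iff.1 hnN t).1 htX
        have hgo : g * g = 1 := invol_mul_self ((orderOf_conj_eq n t).trans ht)
        have hgE : g ∉ E := fun h => htE (by
          have := hEn.conj_mem g h n⁻¹
          rwa [hg, show n⁻¹ * (n * t * n⁻¹) * n⁻¹⁻¹ = t by group] at this)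
        have hgt := (hXmem g hgX).resolve_left hgE
        have hgc : g = t ∨ g = t * z := by
          have hgeq : g = g * t * t := by rw [mul_assoc, htt, mul_one]
          have het' : ∀ f, f * t * (f * t) = 1 → Commute f f → f * f = 1 → Commute f t := by
            intro f h _ hff
            show f * t = t * f
            calc f * t = (f * t)⁻¹ := eq_inv_of_mul_eq_one_left h
              _ = t * f := by rw [mul_inv_rev, hti, inv_eq_of_mul_eq_one_right hff]
          rcases hEall _ hgt with h | h | h | h
          · left; rw [hgeq, h, one_mul]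
          · right; rw [hgeq, h, ← (hzc t).eq]
          · exact absurd (het' e (by rw [← h, mul_assoc g t t, htt, mul_one]; exact hgo)
              (Commute.refl e) hee) het
          · exfalso
            have h1 := het' (e * z) (by rw [← h, mul_assoc g t t, htt, mul_one]; exact hgo)
              (Commute.refl _) (by rw [← pow_two]; exact hEsq _ (mul_mem he hzE))
            have := h1.mul_left (hzc t).symm
            rw [mul_assoc, hzz, mul_one] at this
            exact het this
        rcases hgc with h | h
        · rcases hC n (mul_inv_eq_iff_eq_mul.1 h) with e' | e' | e' | e'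
          · rw [e']; exact one_mem X
          · rw [e']; exact htX
          · rw [e']; exact mem_sup_left hzE
          · rw [e']; exact mul_mem htX (mem_sup_left hzE)
        · have h2 : Commute (e⁻¹ * n) t := by
            refine mul_inv_eq_iff_eq_mul.1 ?_
            calc e⁻¹ * n * t * (e⁻¹ * n)⁻¹ = e⁻¹ * g * e := by rw [hg]; group
              _ = e⁻¹ * (e * t * e⁻¹) * e := by rw [h, het2]
              _ = t := by group
          have he' : e ∈ X := mem_sup_left he
          rcases hC _ h2 with e' | e' | e' | e' <;> rw [inv_mul_eq_iff_eq_mul] at e' <;> rw [e']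
          · rw [mul_one]; exact he'
          · exact mul_mem he' htX
          · exact mul_mem he' (mem_sup_left hzE)
          · exact mul_mem he' (mul_mem htX (mem_sup_left hzE))
      set a := t * e with hadef
      have haa : a * a = z := by
        calc t * e * (t * e) = (t * e * t⁻¹) * (t * t) * e := by group
          _ = e * (z * e) := by rw [hte, htt, mul_one, mul_assoc]
          _ = z := by rw [← (hzc e).eq, ← mul_assoc, hee, one_mul]
      have ha4 : orderOf a = 4 := orderOf_eq_prime_pow (p := 2) (n := 1)
        (by rw [pow_one, pow_two, haa]; exact invol_ne_one hz)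
        (by rw [show 2 ^ (1 + 1) = 2 * 2 by norm_num, pow_mul, pow_two, pow_two, haa, hzz])
      have hinv : t * a * t⁻¹ = a⁻¹ := by
        rw [hadef, mul_inv_rev, inv_eq_of_mul_eq_one_right hee, hti, ← mul_assoc, htt, one_mul]
      have htna : t ∉ zpowers a := by
        intro h
        have h1 : Commute a t := commute_of_mem_zpowers h (Commute.refl a)
        refine het ?_
        have h2 : Commute (t * a) t := (Commute.refl t).mul_left h1
        rwa [hadef, ← mul_assoc, htt, one_mul] at h2
      have hcard : Nat.card K = 2 * 4 := by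
        have hidx : E.index = 2 := index_eq_two_iff.2 ⟨t, fun b => by
          rcases hXmem b (hXtop ▸ mem_top b) with h | h
          · exact Or.inr ⟨h, fun h' => htE (by simpa using mul_mem (inv_mem h) h')⟩
          · exact Or.inl ⟨h, fun h' => htE (by simpa using mul_mem (inv_mem h') h)⟩⟩
        have := E.card_mul_index
        rw [hidx, hEc] at this
        omega
      haveI : NeZero (4 : ℕ) := ⟨by norm_num⟩
      exact ⟨4, by norm_num, Lib.PGroups.nonempty_dihedral_equiv (a := a) (x := t) ha4
        (by rw [pow_two, htt]) hinv htna hcard⟩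
  · -- maximal class
    have htZ : t ∉ center K := fun h => by
      obtain ⟨a, ha⟩ := htc; exact ha (mem_center_iff.1 h a)
    obtain ⟨a, n, hn, hord, hta, hcard, hall, hcase⟩ :=
      Lib.HalfTransitive.dihedral_or_semidihedral hK hno htt htZ
    haveI : NeZero (2 ^ (n + 1)) := ⟨by positivity⟩
    rcases hcase with hinv | ⟨h2n, hsd⟩
    · exact ⟨2 ^ (n + 1), le_self_pow₀ (by norm_num) (by omega),
        Lib.PGroups.nonempty_dihedral_equiv (a := a) (x := t) hord (by rw [pow_two, htt]) hinv hta
          (by rw [hcard, pow_succ' _ (n + 1)])⟩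
    exfalso
    have key : ∀ k : ℤ, a ^ k = 1 ↔ ((2 : ℤ) ^ (n + 1)) ∣ k := fun k => by
      rw [← orderOf_dvd_iff_zpow_eq_one, hord]; norm_num
    have hpos : (0 : ℤ) < 2 ^ n := by positivity
    have hcomm : ∀ k : ℤ, t * a ^ k * t⁻¹ = a ^ (((2 : ℤ) ^ n - 1) * k) := fun k => by
      rw [← conj_zpow, hsd, zpow_mul]
    have hz0 : a ^ ((2 : ℤ) ^ n) ≠ 1 := fun h => by
      have := Int.le_of_dvd hpos ((key _).1 h)
      rw [pow_succ] at this; linarith
    have hsq : a * t * (a * t) = a ^ ((2 : ℤ) ^ n) := by
      calc a * t * (a * t) = a * (t * a * t⁻¹) * (t * t) := by group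
        _ = _ := by rw [hsd, htt, mul_one, ← zpow_one_add]; congr 1; ring
    have hcz : a ^ ((2 : ℤ) ^ n) = z := by
      have hc : Commute (a ^ ((2 : ℤ) ^ n)) t := by
        refine (mul_inv_eq_iff_eq_mul.1 ?_ : Commute t _).symm
        rw [hcomm]
        obtain ⟨m, rfl⟩ : ∃ m, n = m + 1 := ⟨n - 1, by omega⟩
        refine eq_of_div_eq_one ?_
        rw [div_eq_mul_inv, ← zpow_sub, key]
        exact ⟨(2 : ℤ) ^ m - 1, by ring⟩
      rcases hC _ hc with e | e | e | e
      · exact absurd e hz0
      · exact absurd (e ▸ zpow_mem (mem_zpowers a) _) hta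
      · exact e
      · exfalso
        have h1 : Commute a (t * z) := e ▸ (Commute.refl a).zpow_right _
        have := h1.mul_right (hzc a)
        rw [mul_assoc, hzz, mul_one] at this
        have h2 : t * a * t⁻¹ = a := by rw [← this.eq, mul_inv_cancel_right]
        rw [hsd] at h2
        have h3 : a ^ ((2 : ℤ) ^ n - 2) = 1 := by
          rw [show (2 : ℤ) ^ n - 2 = ((2 : ℤ) ^ n - 1) - 1 by ring, zpow_sub_one, h2, mul_inv_cancel]
        have h4 := (key _).1 h3
        have h5 : (4 : ℤ) ≤ 2 ^ n := by
          calc (4 : ℤ) = 2 ^ 2 := by norm_num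
            _ ≤ 2 ^ n := pow_le_pow_right₀ (by norm_num) h2n
        have := Int.le_of_dvd (by linarith) h4
        rw [pow_succ] at this; linarith
    have h5 : (4 : ℤ) ≤ 2 ^ n := by
      calc (4 : ℤ) = 2 ^ 2 := by norm_num
        _ ≤ 2 ^ n := pow_le_pow_right₀ (by norm_num) h2n
    obtain ⟨i, hi⟩ := mem_zpowers_iff.1
      (hnorm (a * t) (hcz ▸ hsq ▸ mul_mem (mem_zpowers _) (mem_zpowers _)) a)
    have hconj : a * (a * t) * a⁻¹ = a ^ (3 - (2 : ℤ) ^ n) * t := by
      have h1 : t * a⁻¹ * t⁻¹ = a ^ (((2 : ℤ) ^ n - 1) * (-1)) := by rw [← hcomm, zpow_neg_one]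
      calc a * (a * t) * a⁻¹ = a * a * (t * a⁻¹ * t⁻¹) * t := by group
        _ = _ := by rw [h1, ← zpow_two, ← zpow_add]; congr 2; ring
    have hpow2 : (a * t) ^ (2 : ℤ) = a ^ ((2 : ℤ) ^ n) := by rw [zpow_two, hsq]
    rcases Int.even_or_odd' i with ⟨j, rfl | rfl⟩
    · rw [hconj, zpow_mul, hpow2, ← zpow_mul] at hi
      refine hta ?_
      have h2' : t = (a ^ (3 - (2 : ℤ) ^ n))⁻¹ * a ^ ((2 : ℤ) ^ n * j) := by rw [hi]; group
      rw [h2']
      exact mul_mem (inv_mem (zpow_mem (mem_zpowers a) _)) (zpow_mem (mem_zpowers a) _)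
    · rw [hconj, zpow_add, zpow_mul, hpow2, ← zpow_mul, zpow_one, ← mul_assoc] at hi
      have h3 := mul_right_cancel hi
      rw [← zpow_add_one] at h3
      have h4 : a ^ ((2 : ℤ) ^ n * j + 1 - (3 - (2 : ℤ) ^ n)) = 1 := by
        rw [zpow_sub, h3, mul_inv_cancel]
      rw [key] at h4
      obtain ⟨m, rfl⟩ : ∃ m, n = m + 2 := ⟨n - 2, by omega⟩
      have h6 : (4 : ℤ) ∣ (2 : ℤ) ^ (m + 2) * j + 1 - (3 - (2 : ℤ) ^ (m + 2)) :=
        Dvd.dvd.trans ⟨2 ^ (m + 1), by ring⟩ h4
      rw [show (2 : ℤ) ^ (m + 2) * j + 1 - (3 - (2 : ℤ) ^ (m + 2)) =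
        4 * (2 ^ m * j + 2 ^ m) - 2 by ring] at h6
      omega

variable {L : Type u} [Group L] [Finite L] [IsSimpleGroup L]

theorem dihedral_central (hG : Cyc L) (hna : ¬ IsMulCommutative L) {T : Sylow 2 L} {z : L}
    (hzT : z ∈ (T : Subgroup L)) (hz : orderOf z = 2) (hzc : ∀ a ∈ (T : Subgroup L), Commute a z)
    {n : ℕ} (hn : 2 ≤ n) (he : Nonempty ((T : Subgroup L) ≃* DihedralGroup n)) : OddPSL L := by
  by_cases hD : oddD z = ⊥
  · refine Cfsg.Agent.S0508.result T n hn he z hz hzT (fun s hs => hzc s hs) (oddD z) rfl
      (fun h => absurd hD h) ?_ (fun Y hY hY1 => absurd (le_bot_iff.1 (hD ▸ hY)) hY1)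
    intro s _ hs
    exact absurd (mem_centralizer_iff.2 fun y hy => by
      rw [SetLike.mem_coe, hD, mem_bot] at hy; simp [hy]) hs
  · obtain ⟨y0, hy0, hy01⟩ := (oddD z).bot_or_exists_ne_one.resolve_left hD
    exact sylow_case hG hna hz hy0 hy01 hzT hzc

theorem of_four (hG : Cyc L) (hna : ¬ IsMulCommutative L) {T : Sylow 2 L} {t z : L}
    (htT : t ∈ (T : Subgroup L)) (hzT : z ∈ (T : Subgroup L)) (ht : orderOf t = 2)
    (hz : orderOf z = 2) (hne : z ≠ t) (hzc : ∀ a ∈ (T : Subgroup L), Commute a z)
    (htc : ∃ a ∈ (T : Subgroup L), ¬ Commute a t)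
    (hC : ∀ a ∈ (T : Subgroup L), Commute a t → a = 1 ∨ a = t ∨ a = z ∨ a = t * z) :
    OddPSL L := by
  obtain ⟨n, hn, he⟩ := dihedral_of_four (K := (T : Subgroup L)) T.2 (t := ⟨t, htT⟩)
    (z := ⟨z, hzT⟩) (by rwa [Subgroup.orderOf_mk]) (by rwa [Subgroup.orderOf_mk])
    (fun e => hne (congrArg Subtype.val e)) (fun a => Subtype.ext (hzc a a.2))
    (by
      obtain ⟨a, ha, hat⟩ := htc
      exact ⟨⟨a, ha⟩, fun h => hat (congrArg Subtype.val h)⟩)
    (fun a h => by
      rcases hC a a.2 (congrArg Subtype.val h) with e | e | e | e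
      · exact Or.inl (Subtype.ext e)
      · exact Or.inr (Or.inl (Subtype.ext e))
      · exact Or.inr (Or.inr (Or.inl (Subtype.ext e)))
      · exact Or.inr (Or.inr (Or.inr (Subtype.ext e))))
    (fun x hx a => by
      rw [← mem_zpowers_map_iff (T : Subgroup L).subtype (Subgroup.subtype_injective _)]
      exact (hG.conj_mem_iff hz
        ((mem_zpowers_map_iff (T : Subgroup L).subtype (Subgroup.subtype_injective _)).2 hx)).2
        (hzc a a.2))
  exact dihedral_central hG hna hzT hz hzc hn he

/-- An involution with non-trivial odd part. -/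
theorem b_case (hG : Cyc L) (hna : ¬ IsMulCommutative L) {t y0 : L} (ht : orderOf t = 2)
    (hy0 : y0 ∈ oddD t) (hy01 : y0 ≠ 1) : OddPSL L := by
  have hpg : IsPGroup 2 (zpowers t) :=
    IsPGroup.of_card (n := 1) (by rw [Nat.card_zpowers, ht, pow_one])
  obtain ⟨T, hT⟩ := hpg.exists_le_sylow
  have htT := hT (mem_zpowers t)
  by_cases hfix : ∀ a ∈ (T : Subgroup L), Commute a t
  · exact sylow_case hG hna ht hy0 hy01 htT hfix
  push Not at hfix
  obtain ⟨z, hzT, hz, hzc, hne, hC⟩ := moved_case hG hna ht hy0 hy01 htT hfix
  exact of_four hG hna htT hzT ht hz hne hzc hfix hC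

end Cfsg.Agent.Lib.NormCyclic64
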