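import Cfsg.Agent.Lib.NormCyclic64.Basic
import Cfsg.Agent.Lib.CNGroup.EvenTI
import Cfsg.Agent.Lib.Involutions.StronglyEmbedded

/-!
In a simple group with the normaliser condition an involution centralising a non-identity element
of odd order is the only involution with its centraliser.
-/

set_option autoImplicit false
set_option linter.style.haveILetI false
set_option linter.unusedSectionVars false

namespace Cfsg.Agent.Lib.NormCyclic64

open Subgroup
open Cfsg.Agent.Lib.Involutions.Basic
open Cfsg.Agent.Lib.CNGroup.EvenTI (EvenTI)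

universe u

variable {L : Type u} [Group L] [Finite L]

omit [Finite L] in
theorem commute_conj_iff {g t c : L} : Commute (g * c * g⁻¹) (g * t * g⁻¹) ↔ Commute c t := by
  refine ⟨fun h => ?_, fun h => h.map (MulAut.conj g).toMonoidHom⟩
  have h2 := h.map (MulAut.conj g⁻¹).toMonoidHom
  simpa [mul_assoc] using h2

omit [Finite L] in
theorem conj_ne_one {g x : L} (hx : x ≠ 1) : g * x * g⁻¹ ≠ 1 :=
  fun h => hx (conj_eq_one_iff.1 h)

omit [Finite L] in
theorem mem_norm_of_iff {g t : L} (h : ∀ c, Commute c (g * t * g⁻¹) ↔ Commute c t) :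
    g ∈ normalizer (centralizer ({t} : Set L) : Set L) := by
  rw [mem_normalizer_iff]
  intro a
  rw [mem_cent, mem_cent, ← h (g * a * g⁻¹), commute_conj_iff]

/-- No nontrivial centre in a simple nonabelian group. -/
theorem not_forall_commute [IsSimpleGroup L] (hna : ¬ IsMulCommutative L) {t : L} (ht : t ≠ 1) :
    ∃ g, ¬ Commute g t := by
  by_contra h
  push Not at h
  have hz : t ∈ center L := mem_center_iff.2 fun g => h g
  rcases (inferInstance : (center L).Normal).eq_bot_or_eq_top with hb | hb
  · rw [hb, mem_bot] at hz; exact ht hz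
  · exact hna ⟨⟨fun a b => (mem_center_iff.1 (hb ▸ mem_top b) a)⟩⟩

variable [IsSimpleGroup L]

/-- An involution with non-trivial odd part is the only involution with its centraliser. -/
theorem Cyc.unique_central (hG : Cyc L) (hna : ¬ IsMulCommutative L) {t u y0 : L}
    (ht : orderOf t = 2) (hu : orderOf u = 2) (hy0 : y0 ∈ oddD t) (hy01 : y0 ≠ 1)
    (hcu : ∀ c, Commute c t → Commute c u) : u = t := by
  by_contra hne
  have htu : Commute t u := hcu t (Commute.refl t)
  have hy := (hG.mem_oddD ht).1 hy0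
  have htt := invol_mul_self ht
  have huC : ∀ c, Commute c u ↔ Commute c t := fun c =>
    (hG.cent_eq ht hu hy.1 (hcu y0 hy.1) hy.2 hy01 c).symm
  -- the product
  have hsame : ∀ w : L, orderOf w = 2 → (∀ c, Commute c t → Commute c w) →
      ∀ c, Commute c w ↔ Commute c t :=
    fun w hw h c => (hG.cent_eq ht hw hy.1 (h y0 hy.1) hy.2 hy01 c).symm
  have hprod : orderOf (t * u) = 2 := invol_iff.2 ⟨by
    calc t * u * (t * u) = t * (u * t) * u := by group
      _ = t * (t * u) * u := by rw [htu.eq]
      _ = (t * t) * (u * u) := by group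
      _ = 1 := by rw [htt, invol_mul_self hu, one_mul], fun e => hne (by
    rw [← invol_inv ht]; exact (inv_eq_of_mul_eq_one_right e).symm)⟩
  have htuC := hsame _ hprod fun c hc => hc.mul_right (hcu c hc)
  -- the product trick
  have trick : ∀ v : L, orderOf v = 2 → Commute v t → (¬ ∀ c, Commute c v ↔ Commute c t) →
      oddD v = ⊥ := by
    intro v hv hvt hvne
    rw [eq_bot_iff_forall]
    intro y' hy'
    by_contra h1
    have hy'' := (hG.mem_oddD hv).1 hy'
    have e1 : t * y' * t⁻¹ = y'⁻¹ := hG.inverts_of_cent_ne hv ht hvt.symm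
      (fun h => hvne fun c => (h c).symm) hy'
    have hvu : Commute v u := hcu v hvt
    have e2 : u * y' * u⁻¹ = y'⁻¹ := hG.inverts_of_cent_ne hv hu hvu.symm
      (fun h => hvne fun c => ((h c).symm).trans (huC c)) hy'
    have hc : Commute (t * u) y' := by
      refine mul_inv_eq_iff_eq_mul.1 ?_
      calc t * u * y' * (t * u)⁻¹ = t * (u * y' * u⁻¹) * t⁻¹ := by group
        _ = t * y'⁻¹ * t⁻¹ := by rw [e2]
        _ = (t * y' * t⁻¹)⁻¹ := by group
        _ = y' := by rw [e1, inv_inv]
    exact hvne fun c =>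
      (hG.cent_eq hv hprod hy''.1 hc.symm hy''.2 h1 c).trans (htuC c)
  -- conjugates in the centraliser
  have hA : ∀ g, Commute (g * t * g⁻¹) t → ∀ c, Commute c (g * t * g⁻¹) ↔ Commute c t := by
    intro g hg
    by_contra hne'
    have h := trick _ ((orderOf_conj_eq g t).trans ht) hg hne'
    have h2 := oddD_conj_mem hG (g := g) ht hy0
    rw [h, mem_bot] at h2
    exact conj_ne_one hy01 h2
  set C := centralizer ({t} : Set L) with hC
  set H := normalizer (C : Set L) with hH
  have hH1 : ∀ g, Commute (g * t * g⁻¹) t → g ∈ H := fun g hg => mem_norm_of_iff (hA g hg)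
  have hH2 : ∀ g ∈ H, Commute (g * t * g⁻¹) t := fun g hg =>
    mem_cent.1 ((mem_normalizer_iff.1 hg t).1 (mem_cent.2 (Commute.refl t)))
  have hH3 : ∀ v ∈ H, orderOf v = 2 → Commute v t := by
    intro v hvH hv
    have htc : Commute (v * t * v⁻¹) t := hH2 v hvH
    set t' := v * t * v⁻¹ with ht'
    have ht'o : orderOf t' = 2 := (orderOf_conj_eq v t).trans ht
    rcases eq_or_ne t' t with e | e
    · exact mul_inv_eq_iff_eq_mul.1 e
    have hu0 : orderOf (t * t') = 2 := invol_iff.2 ⟨by
      calc t * t' * (t * t') = t * (t' * t) * t' := by group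
        _ = t * (t * t') * t' := by rw [htc.eq]
        _ = (t * t) * (t' * t') := by group
        _ = 1 := by rw [htt, invol_mul_self ht'o, one_mul], fun e1 => e (by
      rw [← invol_inv ht]; exact (inv_eq_of_mul_eq_one_right e1).symm)⟩
    have hu0C := hsame _ hu0 fun c hc => hc.mul_right ((hA v htc c).2 hc)
    refine (hu0C v).1 ?_
    show v * (t * t') = t * t' * v
    rw [ht', invol_inv hv]
    have h1 : v * t * v * t = t * (v * t * v) := by
      have := htc.eq
      rwa [ht', invol_inv hv] at this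
    calc v * (t * (v * t * v)) = v * (v * t * v * t) := by rw [h1]
      _ = (v * v) * t * v * t := by group
      _ = t * v * t * (v * v) := by rw [invol_mul_self hv, one_mul, mul_one]
      _ = t * (v * t * v) * v := by group
  have hCH : C ≤ H := le_normalizer
  have hCtop : C ≠ ⊤ := by
    intro e
    obtain ⟨g, hg⟩ := not_forall_commute hna (invol_ne_one ht)
    exact hg (mem_cent.1 (show g ∈ C by rw [e]; exact mem_top g))
  have hHtop : H ≠ ⊤ := by
    intro e
    rcases (normalizer_eq_top_iff.1 e : C.Normal).eq_bot_or_eq_top with hb | hb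
    · have : t ∈ C := mem_cent.2 (Commute.refl t)
      rw [hb, mem_bot] at this
      exact invol_ne_one ht this
    · exact hCtop hb
  -- all involutions of `C` have centraliser `C`
  have hall : ∀ v, orderOf v = 2 → Commute v t → ∀ c, Commute c v ↔ Commute c t := by
    intro v hv hvt
    by_contra hvne
    have hpv := isPGroup_cent_of_oddD hG hv (trick v hv hvt hvne)
    haveI : Fact (Nat.Prime 2) := ⟨Nat.prime_two⟩
    haveI : Group.IsNilpotent (centralizer ({v} : Set L)) := hpv.isNilpotent
    have hvH : centralizer ({v} : Set L) ≤ H := by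
      by_contra hle
      have hlt : centralizer ({v} : Set L) ⊓ H < centralizer ({v} : Set L) :=
        lt_of_le_of_ne inf_le_left fun e => hle (e ▸ inf_le_right)
      obtain ⟨x, hx, hxR⟩ := SetLike.exists_of_lt
        (Cfsg.Agent.Lib.Involutions.StronglyEmbedded.lt_inf_normalizer hlt)
      refine hxR ⟨hx.1, hH1 x (hH3 _ ?_ ((orderOf_conj_eq x t).trans ht))⟩
      exact ((mem_normalizer_iff.1 hx.2 t).1 ⟨mem_cent.2 hvt.symm,
        hCH (mem_cent.2 (Commute.refl t))⟩).2
    obtain ⟨g, hg⟩ : ∃ g, g ∉ H := by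
      by_contra hno
      exact hHtop ((eq_top_iff' _).2 fun g => by_contra fun hg => hno ⟨g, hg⟩)
    have hwo : orderOf (g * t * g⁻¹) = 2 := (orderOf_conj_eq g t).trans ht
    have hwC : ¬ Commute (g * t * g⁻¹) t := fun h => hg (hH1 g h)
    rcases Nat.even_or_odd (orderOf (v * (g * t * g⁻¹))) with he | ho
    · obtain ⟨hz, hzv, hzw⟩ := central_invol hv hwo he
      set z := (v * (g * t * g⁻¹)) ^ (orderOf (v * (g * t * g⁻¹)) / 2)
      have hzC : Commute z t := hH3 z (hvH (mem_cent.2 hzv)) hz
      by_cases hzc : ∀ c, Commute c z ↔ Commute c t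
      · exact hwC ((hzc _).1 hzw.symm)
      · have hz2 := isPGroup_cent_of_oddD hG hz (trick z hz hzC hzc)
        haveI : Group.IsNilpotent (centralizer ({z} : Set L)) := hz2.isNilpotent
        have hzH : centralizer ({z} : Set L) ≤ H := by
          by_contra hle
          have hlt : centralizer ({z} : Set L) ⊓ H < centralizer ({z} : Set L) :=
            lt_of_le_of_ne inf_le_left fun e => hle (e ▸ inf_le_right)
          obtain ⟨x, hx, hxR⟩ := SetLike.exists_of_lt
            (Cfsg.Agent.Lib.Involutions.StronglyEmbedded.lt_inf_normalizer hlt)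
          refine hxR ⟨hx.1, hH1 x (hH3 _ ?_ ((orderOf_conj_eq x t).trans ht))⟩
          exact ((mem_normalizer_iff.1 hx.2 t).1 ⟨mem_cent.2 hzC.symm,
            hCH (mem_cent.2 (Commute.refl t))⟩).2
        exact hwC (hH3 _ (hzH (mem_cent.2 hzw.symm)) hwo)
    · obtain ⟨d, hd⟩ := isConj_iff.1 (isConj_of_odd hwo hv (by
        have : orderOf (g * t * g⁻¹ * v) = orderOf (v * (g * t * g⁻¹)) := by
          rw [← orderOf_conj_eq v (g * t * g⁻¹ * v)]
          congr 1; group
        rwa [this]))
      have hv' : v = d * g * t * (d * g)⁻¹ := by rw [← hd]; group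
      subst hv'
      exact hvne (hA _ hvt)
  -- `C` is a nilpotent TI Hall subgroup
  have hDeq : ∀ v, orderOf v = 2 → Commute v t → ∀ y ∈ oddD t, y ∈ oddD v := by
    intro v hv hvt y hy'
    rw [hG.mem_oddD ht] at hy'
    exact (hG.mem_oddD hv).2 ⟨(hall v hv hvt y).2 hy'.1, hy'.2⟩
  have htwo : ∀ (c y : L) (k : ℕ), Commute c t → orderOf c = 2 ^ k → y ∈ oddD t → Commute c y := by
    intro c y k hct hck hyD
    rcases k with _ | k
    · rw [pow_zero, orderOf_eq_one_iff] at hck; subst hck; exact Commute.one_left y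
    have he : Even (orderOf c) := by rw [hck]; simp [Nat.even_pow]
    refine hG.commute_oddD (orderOf_pow_half he) (npow_mem_zpowers c _) hck
      (hDeq _ (orderOf_pow_half he) (hct.pow_left _) y hyD)
  have hE : EvenTI C := by
    refine ⟨?_, ?_, ?_, ?_, ?_⟩
    · refine isNilpotent_of_commute fun a b p q i j hp hq hpq ha hb => ?_
      rw [← Subgroup.orderOf_coe] at ha hb
      refine Subtype.ext (?_ : (a : L) * b = b * a)
      have hat := mem_cent.1 a.2
      have hbt := mem_cent.1 b.2
      have hodd : ∀ {r e : ℕ} {x : L}, r.Prime → r ≠ 2 → orderOf x = r ^ e → Odd (orderOf x) :=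
        fun hr hr2 hx => hx ▸ (hr.odd_of_ne_two hr2).pow
      by_cases hp2 : p = 2
      · subst hp2
        exact (htwo a b i hat ha ((hG.mem_oddD ht).2 ⟨hbt, hodd hq (Ne.symm hpq) hb⟩)).eq
      · have haD := (hG.mem_oddD ht).2 ⟨hat, hodd hp hp2 ha⟩
        by_cases hq2 : q = 2
        · subst hq2
          exact (htwo b a j hbt hb haD).symm.eq
        · exact (hG.oddD_coprime_commute ht ((hG.mem_oddD ht).2 ⟨hbt, hodd hq hq2 hb⟩) haD
            (by rw [ha, hb]; exact ((Nat.coprime_primes hq hp).2 (Ne.symm hpq)).pow j i)).eq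
    · exact even_iff_two_dvd.2 (ht ▸ orderOf_dvd_natCard C (mem_cent.2 (Commute.refl t)))
    · intro x hx hx1 g hg
      obtain ⟨a, ha, ha1, hao⟩ := exists_power hx1
      have haC : a ∈ C := zpowers_le.2 hx ha
      have hgaC : g * a * g⁻¹ ∈ C := by
        obtain ⟨j, rfl⟩ := mem_zpowers_iff.1 ha
        rw [← conj_zpow]; exact zpow_mem hg j
      rw [mem_cent] at haC hgaC
      refine mem_norm_of_iff fun c => ?_
      rcases hao with hao | hao
      · rw [← hall _ ((orderOf_conj_eq g a).trans hao) hgaC c]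
        obtain ⟨c', rfl⟩ : ∃ c', g * c' * g⁻¹ = c := ⟨g⁻¹ * c * g, by group⟩
        rw [commute_conj_iff, commute_conj_iff, hall a hao haC]
      · exact hG.cent_eq ((orderOf_conj_eq g t).trans ht) ht (commute_conj_iff.2 haC) hgaC
          ((orderOf_conj_eq g a).symm ▸ hao) (conj_ne_one ha1) c
    · intro x hx hx1 c hc
      obtain ⟨a, ha, ha1, hao⟩ := exists_power hx1
      have haC := mem_cent.1 (zpowers_le.2 hx ha)
      have hca : Commute c a := commute_of_mem_zpowers ha (mem_cent.1 hc)
      rw [mem_cent]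
      rcases hao with hao | hao
      · exact (hall a hao haC c).1 hca
      · exact hG.cent_le ht haC hao ha1 hca
    · intro p hp hd
      haveI := Fact.mk hp
      obtain ⟨a, ha⟩ := exists_prime_orderOf_dvd_card' (G := C) p hd
      have hpg : IsPGroup p (zpowers (a : L)) :=
        IsPGroup.of_card (n := 1) (by rw [Nat.card_zpowers, Subgroup.orderOf_coe, ha, pow_one])
      obtain ⟨Q, hQ⟩ := hpg.exists_le_sylow
      have ha1 : (a : L) ≠ 1 := by
        intro e; rw [← Subgroup.orderOf_coe, e, orderOf_one] at ha; exact hp.ne_one ha.symm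
      have haQ : (a : L) ∈ (Q : Subgroup L) := hQ (mem_zpowers _)
      haveI : Nontrivial (Q : Subgroup L) := ⟨⟨⟨a, haQ⟩, 1, fun e => ha1 (congrArg Subtype.val e)⟩⟩
      haveI := Q.2.center_nontrivial
      obtain ⟨⟨⟨z, hzQ⟩, hz⟩, hz1⟩ := exists_ne (1 : center (Q : Subgroup L))
      have hzc : ∀ b ∈ (Q : Subgroup L), Commute b z := fun b hb =>
        congrArg Subtype.val (mem_center_iff.1 hz ⟨b, hb⟩)
      have hzC : z ∈ C := by
        have hz' : Commute z a := (hzc a haQ).symm
        obtain ⟨b, hb, hb1, hbo⟩ := exists_power ha1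
        have hbC := mem_cent.1 (zpowers_le.2 a.2 hb)
        have hzb : Commute z b := commute_of_mem_zpowers hb hz'
        rw [mem_cent]
        rcases hbo with hbo | hbo
        · exact (hall b hbo hbC z).1 hzb
        · exact hG.cent_le ht hbC hbo hb1 hzb
      refine ⟨Q, fun b hb => ?_⟩
      have hzne : z ≠ 1 := fun e => hz1 (Subtype.ext (Subtype.ext e))
      obtain ⟨c, hc, hc1, hco⟩ := exists_power hzne
      have hcC := mem_cent.1 (zpowers_le.2 hzC hc)
      have hbc : Commute b c := commute_of_mem_zpowers hc (hzc b hb)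
      rw [mem_cent]
      rcases hco with hco | hco
      · exact (hall c hco hcC b).1 hbc
      · exact hG.cent_le ht hcC hco hc1 hbc
  obtain ⟨p, k, hp, hk, hpk⟩ := (isPrimePow_nat_iff _).1
    (Cfsg.Agent.Lib.CNGroup.EvenTI.isPrimePow_card hE hHtop)
  have hp2 : p = 2 := ((Nat.prime_dvd_prime_iff_eq Nat.prime_two hp).1
    (Nat.prime_two.dvd_of_dvd_pow (hpk ▸ hE.even.two_dvd))).symm
  subst hp2
  have h1 := orderOf_dvd_natCard C (mem_cent.2 hy.1)
  rw [← hpk] at h1
  obtain ⟨j, -, hj⟩ := (Nat.dvd_prime_pow Nat.prime_two).1 h1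
  exact hy01 (eq_one_of_odd_two_pow hy.2 hj)

end Cfsg.Agent.Lib.NormCyclic64
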